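import Mathlib

/-!
# Zariski closures of projections, by valuations
-/

set_option autoImplicit false

universe u v w

open MvPolynomial

noncomputable section

namespace Groth.Agent.RatDeg

attribute [local instance] MvPolynomial.algebraMvPolynomial

variable {k : Type u} [Field k] {σ : Type} [Finite σ] {τ : Type} [Finite τ]

/-- A polynomial system with a solution in some extension field has a solution. -/
theorem exists_solution [IsAlgClosed k] (E : Set (MvPolynomial τ k)) {L : Type w} [CommRing L] [Nontrivial L]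
    (ψ : k →+* L) (z : τ → L) (hz : ∀ P ∈ E, eval₂ ψ z P = 0) : ∃ z₀ : τ → k, ∀ P ∈ E, eval z₀ P = 0 := by
  have hne : Ideal.span E ≠ ⊤ := fun e => by
    have h1 : Ideal.span E ≤ RingHom.ker (eval₂Hom ψ z) := Ideal.span_le.2 fun P hP => hz P hP
    have h2 : (1 : MvPolynomial τ k) ∈ RingHom.ker (eval₂Hom ψ z) := h1 (e ▸ Submodule.mem_top)
    rw [RingHom.mem_ker, map_one] at h2
    exact one_ne_zero h2
  obtain ⟨M, hM, hle⟩ := Ideal.exists_le_maximal _ hne
  obtain ⟨z₀, rfl⟩ := (isMaximal_iff_eq_vanishingIdeal_singleton).1 hM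
  exact ⟨z₀, fun P hP => by simpa using hle (Ideal.subset_span hP)⟩

/-- A point in the closure of the projection of a solution set is the reduction of a solution over a valued
field. -/
theorem exists_valued (E : Set (MvPolynomial (σ ⊕ τ) k)) (x : σ → k)
    (hx : ∀ f : MvPolynomial σ k,
      (∀ y : σ → k, (∃ z : τ → k, ∀ P ∈ E, eval (Sum.elim y z) P = 0) → eval y f = 0) → eval x f = 0) :
    ∃ (K : Type u) (_ : Field K) (_ : IsAlgClosed K) (V : ValuationSubring K) (ψ : k →+* V) (y : σ → V)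
      (z : τ → K), (∀ P ∈ E, eval₂ (V.subtype.comp ψ) (Sum.elim (fun i => (y i : K)) z) P = 0) ∧
        ∀ i, IsLocalRing.residue V (y i) = IsLocalRing.residue V (ψ (x i)) := by
  classical
  let I : Ideal (MvPolynomial σ k) :=
    ⨅ y ∈ {y : σ → k | ∃ z : τ → k, ∀ P ∈ E, eval (Sum.elim y z) P = 0}, RingHom.ker (eval y)
  have hIx : I ≤ RingHom.ker (eval x) := fun f hf => RingHom.mem_ker.2 (hx f fun y hy => by
    simp only [I, Ideal.mem_iInf] at hf
    exact RingHom.mem_ker.1 (hf y hy))
  haveI : (RingHom.ker (eval x)).IsPrime := RingHom.ker_isPrime _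
  obtain ⟨p, hp, hpx⟩ := Ideal.exists_minimalPrimes_le hIx
  haveI : p.IsPrime := hp.1.1
  have hfin := Ideal.finite_minimalPrimes_of_isNoetherianRing (MvPolynomial σ k) I
  have hg : ∀ q ∈ I.minimalPrimes, q ≠ p → ∃ g ∈ q, g ∉ p := fun q hq hne =>
    Set.not_subset.1 fun h => hne (le_antisymm h (hp.2 hq.1 h))
  choose g hgq hgp using hg
  let G : MvPolynomial σ k := ∏ q ∈ hfin.toFinset.attach,
    if h : q.1 = p then 1 else g q.1 (hfin.mem_toFinset.1 q.2) h
  have hGp : G ∉ p := fun h => by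
    obtain ⟨q, -, hq⟩ := (Ideal.IsPrime.prod_mem_iff).1 h
    split_ifs at hq with he
    · exact ‹p.IsPrime›.ne_top ((Ideal.eq_top_iff_one _).2 hq)
    · exact hgp _ _ _ hq
  let C' := MvPolynomial σ k ⧸ p
  let F := FractionRing C'
  let π : MvPolynomial σ k →+* C' := Ideal.Quotient.mk p
  let Φ : MvPolynomial (σ ⊕ τ) k →+* MvPolynomial τ C' :=
    eval₂Hom (C.comp (π.comp C)) (Sum.elim (fun i => C (π (X i))) X)
  haveI := MvPolynomial.isLocalization (σ := τ) (nonZeroDivisors C') F
  have hJ : (Ideal.span (Φ '' E)).map (algebraMap (MvPolynomial τ C') (MvPolynomial τ F)) ≠ ⊤ := by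
    intro e
    obtain ⟨m, hm, hmem⟩ := (IsLocalization.algebraMap_mem_map_algebraMap_iff
      ((nonZeroDivisors C').map (C : C' →+* MvPolynomial τ C')) (MvPolynomial τ F) (Ideal.span (Φ '' E)) 1).1
        (by rw [e]; trivial)
    obtain ⟨f, hf, rfl⟩ := Submonoid.mem_map.1 hm
    obtain ⟨f₀, rfl⟩ := Ideal.Quotient.mk_surjective f
    rw [mul_one] at hmem
    have hfp : f₀ ∉ p := fun h => nonZeroDivisors.ne_zero hf (Ideal.Quotient.eq_zero_iff_mem.2 h)
    refine (Ideal.IsPrime.mem_or_mem inferInstance (?_ : f₀ * G ∈ p)).elim hfp hGp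
    refine hp.1.2 ?_
    simp only [I, Ideal.mem_iInf]
    rintro y ⟨z, hz⟩
    have hIy : I ≤ RingHom.ker (eval y) := iInf₂_le y ⟨z, hz⟩
    haveI : (RingHom.ker (eval y)).IsPrime := RingHom.ker_isPrime _
    obtain ⟨q, hq, hqy⟩ := Ideal.exists_minimalPrimes_le hIy
    rw [RingHom.mem_ker, map_mul]
    by_cases hqp : q = p
    · subst hqp
      refine mul_eq_zero_of_left ?_ _
      let χ : MvPolynomial τ C' →+* k := eval₂Hom (Ideal.Quotient.lift q (eval y) fun a ha => hqy ha) z
      have hχ : χ.comp Φ = eval (Sum.elim y z) := MvPolynomial.ringHom_ext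
        (fun r => by simp only [χ, Φ, RingHom.comp_apply, eval₂Hom_C, eval_C]; exact eval_C _)
        (fun i => by
          cases i with
          | inl i => simp only [χ, Φ, RingHom.comp_apply, eval₂Hom_X', eval₂Hom_C, eval_X, Sum.elim_inl]; exact eval_X _
          | inr i => simp only [χ, Φ, RingHom.comp_apply, eval₂Hom_X', eval_X, Sum.elim_inr])
      have h0 : Ideal.span (Φ '' E) ≤ RingHom.ker χ := Ideal.span_le.2 (by
        rintro _ ⟨P, hP, rfl⟩
        exact RingHom.mem_ker.2 ((RingHom.congr_fun hχ P).trans (hz P hP)))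
      have := RingHom.mem_ker.1 (h0 hmem)
      simp only [χ, eval₂Hom_C] at this
      exact this
    · refine mul_eq_zero_of_right _ (RingHom.mem_ker.1 (hqy ?_))
      have hmem' : q ∈ hfin.toFinset := hfin.mem_toFinset.2 hq
      refine Ideal.mem_of_dvd _ (Finset.dvd_prod_of_mem _ (Finset.mem_attach _ ⟨q, hmem'⟩)) ?_
      rw [dif_neg hqp]
      exact hgq _ _ _
  obtain ⟨M, hM, hle⟩ := Ideal.exists_le_maximal _ hJ
  letI : Field (MvPolynomial τ F ⧸ M) := Ideal.Quotient.field M
  let K := AlgebraicClosure (MvPolynomial τ F ⧸ M)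
  let toK : MvPolynomial τ C' →+* K :=
    (algebraMap (MvPolynomial τ F ⧸ M) K).comp ((Ideal.Quotient.mk M).comp (algebraMap _ (MvPolynomial τ F)))
  let φ : MvPolynomial σ k →+* K := toK.comp (C.comp π)
  have hker : RingHom.ker φ = p := by
    have hinj : Function.Injective (toK.comp C) := by
      have e : toK.comp C = ((algebraMap (MvPolynomial τ F ⧸ M) K).comp ((Ideal.Quotient.mk M).comp C)).comp
          (algebraMap C' F) := RingHom.ext fun r => by simp [toK]
      rw [e]
      intro a b hab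
      exact IsFractionRing.injective C' F (RingHom.injective
        ((algebraMap (MvPolynomial τ F ⧸ M) K).comp ((Ideal.Quotient.mk M).comp C)) hab)
    show RingHom.ker ((toK.comp C).comp π) = p
    rw [← RingHom.comap_ker, (RingHom.injective_iff_ker_eq_bot _).1 hinj, ← RingHom.ker_eq_comap_bot,
      Ideal.mk_ker]
  have hproper : (RingHom.ker (eval x)).map φ.rangeRestrict ≠ ⊤ := fun e => by
    have h1 := Ideal.comap_map_of_surjective φ.rangeRestrict φ.rangeRestrict_surjective (RingHom.ker (eval x))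
    have hk : (⊥ : Ideal φ.range).comap φ.rangeRestrict = p := by
      rw [← RingHom.ker_eq_comap_bot, RingHom.ker_rangeRestrict, hker]
    rw [e, Ideal.comap_top, hk, sup_eq_left.2 hpx] at h1
    exact (RingHom.ker_isPrime (eval x)).ne_top h1.symm
  obtain ⟨V, hV, hVm⟩ := Ideal.image_subset_nonunits_valuationSubring _ hproper
  have hφV : ∀ f, φ f ∈ V := fun f => hV ⟨f, rfl⟩
  let ψ : k →+* V := (φ.comp C).codRestrict V fun c => hφV _
  refine ⟨K, inferInstance, inferInstance, V, ψ, fun i => ⟨φ (X i), hφV _⟩, fun i => toK (X i),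
    fun P hP => ?_, fun i => ?_⟩
  · have e : eval₂Hom (V.subtype.comp ψ) (Sum.elim (fun i => φ (X i)) fun i => toK (X i)) = toK.comp Φ :=
      MvPolynomial.ringHom_ext (fun r => by simp [Φ, φ, ψ]) (fun i => by cases i <;> simp [Φ, φ])
    refine (RingHom.congr_fun e P).trans ?_
    show algebraMap (MvPolynomial τ F ⧸ M) K (Ideal.Quotient.mk M (algebraMap _ (MvPolynomial τ F) (Φ P))) = 0
    rw [Ideal.Quotient.eq_zero_iff_mem.2 (hle (Ideal.mem_map_of_mem _ (Ideal.subset_span ⟨P, hP, rfl⟩))), map_zero]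
  · rw [← sub_eq_zero, ← map_sub, IsLocalRing.residue_eq_zero_iff, ValuationSubring.valuation_lt_one_iff]
    have hn : φ (X i - C (x i)) ∈ V.nonunits := hVm ⟨φ.rangeRestrict (X i - C (x i)),
      Ideal.mem_map_of_mem _ (RingHom.mem_ker.2 (by simp)), rfl⟩
    rw [ValuationSubring.mem_nonunits_iff, map_sub] at hn
    exact hn

end Groth.Agent.RatDeg
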