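import Groth.Agent.GenusZeroDesc.RatPoint
import Groth.Agent.SerrePn.LinForms
import Groth.Agent.ProjMor.Over
import Groth.Agent.ProjMor.Sym
import Groth.Agent.CurveP1.Basic
import Groth.Agent.Castel.Surface
import Groth.Agent.ProjMor.PullSec

/-!
# Morphisms from the projective line to projective space by forms
-/

set_option autoImplicit false
set_option linter.style.haveILetI false
set_option backward.isDefEq.respectTransparency false
set_option backward.isDefEq.respectTransparency.types false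
set_option synthInstance.maxHeartbeats 400000
set_option maxHeartbeats 1000000

universe u

open CategoryTheory AlgebraicGeometry TopologicalSpace MvPolynomial
open Groth.Agent.QC (res resO resO_resO resO_self res_res res_self app_res)
open Groth.Agent.GenusZeroDesc

noncomputable section

namespace Groth.Agent.RatDeg

variable {k : Type u} [Field k] {n : ℕ}

/-- The coordinates of a section in a chart, read as a ring map. -/
theorem isPtOf_ev (s : Spec (CommRingCat.of k) ⟶ CohB1.ProjSpace n k) (hs : s ≫ CohB1.ProjSpace.toSpec n k = 𝟙 _)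
    (l : Fin (n + 1)) (hle : ⊤ ≤ s ⁻¹ᵁ PicPn.ch (k := k) l) :
    ∃ c : Fin (n + 1) → k, c l = 1 ∧ IsPtOf (n := n) (s (IsLocalRing.closedPoint k)) c ∧
      ∀ A : MvPolynomial (Fin (n + 1)) k,
        (Scheme.ΓSpecIso (CommRingCat.of k)).hom (ProjMor.ev s _ ⊤ hle (GrT.deh _ (PicPn.X_mem l) A)) = eval c A := by
  let ψ : Γ(PicPn.P n k, PicPn.ch (k := k) l) →+* k :=
    (Scheme.ΓSpecIso (CommRingCat.of k)).hom.hom.comp (ProjMor.ev s _ ⊤ hle)
  have hψC : ∀ a, ψ (GrT.deh (CohB1.polyGrading n k) (PicPn.X_mem l) (C a)) = a := fun a => by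
    have e := ProjMor.ev_deh_algebraMap (CohB1.polyGrading n k) s (q := 𝟙 _) hs (PicPn.X_mem l) hle a
    show (Scheme.ΓSpecIso (CommRingCat.of k)).hom (ProjMor.ev s _ ⊤ hle (GrT.deh _ _ (algebraMap k _ a))) = a
    erw [e]
    exact (congrArg _ (resO_self _ _)).trans
      (ConcreteCategory.congr_hom (Scheme.ΓSpecIso (CommRingCat.of k)).inv_hom_id a)
  let c : Fin (n + 1) → k := fun j => ψ (PicPn.z l j)
  have hc : c l = 1 := by simp [c, PicPn.z, GrT.deh_self]
  have hψ : ψ.comp (GrT.deh (CohB1.polyGrading n k) (PicPn.X_mem l)) = eval c :=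
    MvPolynomial.ringHom_ext (fun a => (hψC a).trans (eval_C _).symm) fun j => by rw [eval_X]; rfl
  refine ⟨c, hc, isPtOf_of_mem (hle trivial) c hc fun j => ?_, fun A => RingHom.congr_fun hψ A⟩
  have hm : X j - C (c j) * X l ∈ CohB1.polyGrading n k 1 :=
    sub_mem (PicPn.X_mem j) ((MvPolynomial.isHomogeneous_X k l).C_mul _)
  by_contra hn
  have hb := (mem_basicOpen_deh (show s (IsLocalRing.closedPoint k) ∈ _ from hle trivial) hm).2 hn
  have h0 : ψ (GrT.deh (CohB1.polyGrading n k) (PicPn.X_mem l) (X j - C (c j) * X l)) = 0 :=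
    (RingHom.congr_fun hψ _).trans (by simp [hc])
  have h1 : ProjMor.ev s _ ⊤ hle (GrT.deh (CohB1.polyGrading n k) (PicPn.X_mem l) (X j - C (c j) * X l)) = 0 :=
    (Scheme.ΓSpecIso (CommRingCat.of k)).commRingCatIsoToRingEquiv.map_eq_zero_iff.1 h0
  have h2 : IsLocalRing.closedPoint k ∈ (Spec (CommRingCat.of k)).basicOpen
      (ProjMor.ev s _ ⊤ hle (GrT.deh (CohB1.polyGrading n k) (PicPn.X_mem l) (X j - C (c j) * X l))) := by
    rw [ProjMor.ev, Scheme.Hom.appLE]
    erw [CategoryTheory.comp_apply, Scheme.basicOpen_res, ← Scheme.preimage_basicOpen]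
    exact ⟨trivial, hb⟩
  rw [h1, Scheme.basicOpen_zero] at h2
  exact h2

/-- Two tuples of a point are proportional. -/
theorem proportional {y : PicPn.P n k} {c c' : Fin (n + 1) → k} (h : IsPtOf y c) (h' : IsPtOf y c') :
    ∃ t : k, t ≠ 0 ∧ c' = t • c := by
  obtain ⟨l, hl⟩ : ∃ l, c l ≠ 0 := Function.ne_iff.1 h.1
  have key : ∀ j, c' j * c l = c j * c' l := fun j => by
    have hA : C (c l) * X j - C (c j) * X l ∈ CohB1.polyGrading n k 1 :=
      sub_mem ((MvPolynomial.isHomogeneous_X k j).C_mul _) ((MvPolynomial.isHomogeneous_X k l).C_mul _)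
    have h0 : (C (c l) * X j - C (c j) * X l) ∈ pr y := (h.2 hA).2 (by simp; ring)
    have := (h'.2 hA).1 h0
    simp only [map_sub, map_mul, eval_C, eval_X] at this
    linear_combination this
  have hl' : c' l ≠ 0 := fun e => h'.1 (funext fun j => by
    have := key j
    rw [e, mul_zero, mul_eq_zero] at this
    exact this.resolve_right hl)
  exact ⟨c' l / c l, div_ne_zero hl' hl, funext fun j => by
    show c' j = c' l / c l * c j
    rw [div_mul_eq_mul_div, eq_div_iff hl, key j]; ring⟩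

variable [IsAlgClosed k]

/-- A closed point has a tuple. -/
theorem exists_tuple (y : CohB1.ProjSpace n k) (hy : IsClosed ({y} : Set (CohB1.ProjSpace n k))) :
    ∃ c, IsPtOf (n := n) y c := by
  haveI := ProjMor.isProper_toSpec n k
  obtain ⟨c, hc⟩ := exists_isPtOf (pointOfClosedPoint (CohB1.ProjSpace.toSpec n k) y hy)
    (pointOfClosedPoint_comp _ y hy)
  exact ⟨c, by rwa [pointOfClosedPoint_apply _ y hy] at hc⟩

omit [IsAlgClosed k] in
/-- A tuple has a closed point. -/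
theorem exists_pt (c : Fin (n + 1) → k) (hc : c ≠ 0) :
    ∃ s : Spec (CommRingCat.of k) ⟶ CohB1.ProjSpace n k, s ≫ CohB1.ProjSpace.toSpec n k = 𝟙 _ ∧
      IsPtOf (n := n) (s (IsLocalRing.closedPoint k)) c := by
  obtain ⟨l, hl⟩ : ∃ l, c l ≠ 0 := Function.ne_iff.1 hc
  obtain ⟨s, hs, h⟩ := exists_section l ((c l)⁻¹ • c) (by simp [hl])
  refine ⟨s, hs, ?_⟩
  have h' := h.smul hl
  rwa [smul_smul, mul_inv_cancel₀ hl, one_smul] at h'

variable (n) in
/-- Forms of degree `e` on the line without common zero. -/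
def NoBase (e : ℕ) (G : Fin (n + 1) → MvPolynomial (Fin 2) k) : Prop :=
  (∀ i, G i ∈ CohB1.polyGrading 1 k e) ∧ ∀ c : Fin 2 → k, c ≠ 0 → ∃ i, eval c (G i) ≠ 0

/-- The morphism by the forms `G`. -/
theorem exists_mor_forms {e : ℕ} {G : Fin (n + 1) → MvPolynomial (Fin 2) k} (hG : NoBase n e G) :
    ∃ r : CohB1.ProjSpace 1 k ⟶ CohB1.ProjSpace n k,
      r ≫ CohB1.ProjSpace.toSpec n k = CohB1.ProjSpace.toSpec 1 k ∧
      Curv2.deg k (CohB1.ProjSpace 1 k) ((Scheme.Modules.pullback r).obj (Twist.twistProjSpace n k 1)) 1 = e ∧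
      ∀ (y : CohB1.ProjSpace 1 k) (c : Fin 2 → k), IsPtOf (n := 1) y c →
        IsPtOf (n := n) (r y) (fun i => eval c (G i)) := by
  classical
  have hA1 : ProjMor.GenDegOne (CohB1.polyGrading 1 k) := ProjMor.genDegOne_projSpace 1 k
  have hcov1 : ∀ x : ProjectiveSpectrum (CohB1.polyGrading 1 k), ∃ g ∈ CohB1.polyGrading 1 k 1,
      g ∉ x.asHomogeneousIdeal := ProjMor.exists_notMem hA1
  have hcove : ∀ x : ProjectiveSpectrum (CohB1.polyGrading 1 k), ∃ g ∈ CohB1.polyGrading 1 k e,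
      g ∉ x.asHomogeneousIdeal := fun x => by
    obtain ⟨g, hg, hgx⟩ := hcov1 x
    refine ⟨g ^ e, by simpa using SetLike.pow_mem_graded e hg, fun h => hgx (x.isPrime.mem_of_pow_mem e h)⟩
  let L : (CohB1.ProjSpace 1 k).Modules := Twist.twistProjSpace 1 k (e : ℤ)
  have hL : PicF.IsInvertible L := GrT.isInvertible_twist hcov1 _
  let s : Fin (n + 1) → ProjUP.Γm L := fun i => GrT.degSection (𝒜 := CohB1.polyGrading 1 k) (hG.1 i)
  have hloc : ∀ {f : MvPolynomial (Fin 2) k} (hf : f ∈ CohB1.polyGrading 1 k e),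
      CohB1.genLocus L (TMul.homOf (L := L) (GrT.degSection (𝒜 := CohB1.polyGrading 1 k) hf)) =
        Proj.basicOpen (CohB1.polyGrading 1 k) f := fun {f} hf => by
    rw [← GrT.genLocus_degSection hcove hf]
    refine congrArg _ (TMul.hom_ext_val ((TMul.val_homOf _ ⊤).trans ?_))
    exact ((GrT.homOfSection_app _ (GrT.degSection (𝒜 := CohB1.polyGrading 1 k) hf) ⊤ 1).trans (one_smul _ _)).symm
  haveI := ProjMor.isProper_toSpec 1 k
  haveI : JacobsonSpace (CohB1.ProjSpace 1 k) := LocallyOfFiniteType.jacobsonSpace (CohB1.ProjSpace.toSpec 1 k)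
  obtain ⟨r, hr, τ, hτ⟩ := ProjMor.exists_projSpace (n := n) (CohB1.ProjSpace.toSpec 1 k) hL s
    (ProjMor.generatedBy_of_mem_genLocus s fun x => by
      by_contra hx
      push Not at hx
      obtain ⟨z, hzx, hz⟩ := nonempty_inter_closedPoints (Set.singleton_nonempty x).closure
        isClosed_closure.isLocallyClosed
      obtain ⟨c, hc⟩ := exists_tuple z hz
      obtain ⟨i, hi⟩ := hG.2 c hc.1
      refine hx i ?_
      rw [hloc (hG.1 i)]
      have hzi : z ∈ Proj.basicOpen (CohB1.polyGrading 1 k) (G i) :=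
        (ProjectiveSpectrum.mem_basicOpen _ _ _).2 fun h => hi ((hc.2 (hG.1 i)).1 h)
      exact ((Proj.basicOpen _ (G i)).2.mem_nhds hzi |> fun hn =>
        (specializes_iff_mem_closure.2 hzx).mem_open (Proj.basicOpen _ (G i)).2 hzi))
  refine ⟨r, hr, ?_, fun y c hc => ?_⟩
  · rw [← Castel.deg_twist_line k (e : ℤ)]
    simp only [Curv2.deg]
    rw [show Curv2.euler k (CohB1.ProjSpace 1 k) ((Scheme.Modules.pullback r).obj (Twist.twistProjSpace n k 1)) =
      Curv2.euler k (CohB1.ProjSpace 1 k) (Twist.twistProjSpace 1 k (e : ℤ)) from CurveRR.euler_eq_of_iso τ]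
  obtain ⟨i₀, hi₀⟩ := hG.2 c hc.1
  have hlin : ∀ a : Fin (n + 1) → k, ∀ y, r y ∈ Proj.basicOpen (CohB1.polyGrading n k) (ProjMor.linForms n k a) ↔
      y ∈ Proj.basicOpen (CohB1.polyGrading 1 k) (∑ i, a i • G i) := by
    intro a y
    have hmem : ∑ i, a i • G i ∈ CohB1.polyGrading 1 k e :=
      Submodule.sum_mem _ fun i _ => Submodule.smul_mem _ _ (hG.1 i)
    rw [← hloc hmem]
    show y ∈ (r ⁻¹ᵁ Proj.basicOpen (CohB1.polyGrading n k) (ProjMor.linForms n k a)) ↔ _
    rw [← ProjMor.genLocus_pull1 (ProjMor.genDegOne_projSpace n k) r (ProjMor.linForms_mem n k a),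
      ← TMul.genLocus_comp (s := TMul.homOf (ProjMor.pull1 r (ProjMor.linForms_mem n k a))) τ.hom, ← ProjMor.homOf_app]
    refine Iff.of_eq (congrArg (fun W => y ∈ W) (congrArg _ (congrArg TMul.homOf ?_)))
    rw [ProjMor.pull1_linForms, map_sum]
    have hsum : ∀ (t : Finset (Fin (n + 1))) (f : MvPolynomial (Fin 2) k) (_ : f = ∑ i ∈ t, a i • G i)
        (ht : f ∈ CohB1.polyGrading 1 k e),
        (GrT.degSection (𝒜 := CohB1.polyGrading 1 k) ht : Γ(L, ⊤)) =
          ∑ i ∈ t, ProjUP.toGlobal (CohB1.ProjSpace.toSpec 1 k) (a i) • (s i : Γ(L, ⊤)) := by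
      intro t
      induction t using Finset.induction_on with
      | empty =>
        intro f hf ht
        obtain rfl : f = (0 : k) • G i₀ := by rw [hf, Finset.sum_empty, zero_smul]
        refine (SerrePn.degSection_smul hcov1 (0 : k) (hG.1 i₀)).trans ?_
        rw [map_zero, zero_smul, Finset.sum_empty]
      | @insert i t hi ih =>
        intro f hf ht
        rw [Finset.sum_insert hi] at hf
        subst hf
        have h1 : ∑ j ∈ t, a j • G j ∈ CohB1.polyGrading 1 k e :=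
          Submodule.sum_mem _ fun i _ => Submodule.smul_mem _ _ (hG.1 i)
        refine (SerrePn.degSection_add (Submodule.smul_mem _ (a i) (hG.1 i)) h1).trans ?_
        refine Eq.trans ?_ (Finset.sum_insert hi).symm
        exact congrArg₂ (· + ·) (SerrePn.degSection_smul hcov1 (a i) (hG.1 i)) (ih _ rfl h1)
    refine Eq.trans ?_ (hsum Finset.univ _ rfl hmem).symm
    refine Finset.sum_congr rfl fun i _ => ?_
    rw [TMul.app_smul, hr]
    exact congrArg _ (hτ i)
  have hmemP : ∀ a : Fin (n + 1) → k,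
      ProjMor.linForms n k a ∈ pr (r y) ↔ ∑ i, a i * eval c (G i) = 0 := fun a => by
    have hmem : ∑ i, a i • G i ∈ CohB1.polyGrading 1 k e :=
      Submodule.sum_mem _ fun i _ => Submodule.smul_mem _ _ (hG.1 i)
    have hb : ∀ {m : ℕ} (x : PicPn.P m k) (A : MvPolynomial (Fin (m + 1)) k),
        (x ∈ Proj.basicOpen (CohB1.polyGrading m k) A) ↔ A ∉ pr x := fun x A =>
      ProjectiveSpectrum.mem_basicOpen _ _ _
    have h1 := not_iff_not.2 (((hb (r y) _).symm.trans (hlin a y)).trans (hb y _))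
    rw [not_not, not_not] at h1
    refine h1.trans ((hc.2 hmem).trans ?_)
    rw [map_sum]
    simp only [smul_eval]
  have hX : ∀ j, ProjMor.linForms n k (Pi.single j 1) = X j := ProjMor.linForms_single n k
  have hl : r y ∈ PicPn.ch (k := k) i₀ := (ProjectiveSpectrum.mem_basicOpen _ _ _).2 fun h => by
    refine hi₀ ?_
    have := (hmemP (Pi.single i₀ 1)).1 (by rw [hX]; exact h)
    simpa [Pi.single_apply] using this
  have h' := isPtOf_of_mem hl (fun j => eval c (G j) / eval c (G i₀)) (div_self hi₀) fun j => by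
    have e1 : ProjMor.linForms n k (Pi.single j 1 - (eval c (G j) / eval c (G i₀)) • Pi.single i₀ 1) =
        X j - C (eval c (G j) / eval c (G i₀)) * X i₀ := by
      rw [map_sub, map_smul, hX, hX, smul_eq_C_mul]
    rw [← e1, hmemP]
    simp [Pi.single_apply, sub_mul, Finset.sum_sub_distrib, hi₀]
  have h2 := h'.smul hi₀
  convert h2 using 1
  funext j
  simp [hi₀, mul_div_cancel₀]

open scoped Polynomial in
/-- A binary form read on the affine line. -/
def pol : MvPolynomial (Fin 2) k →+* Polynomial k := eval₂Hom Polynomial.C ![1, Polynomial.X]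

omit [IsAlgClosed k] in
theorem eval_pol (A : MvPolynomial (Fin 2) k) (t : k) : (pol A).eval t = eval ![1, t] A := by
  have e : (Polynomial.evalRingHom t).comp pol = eval ![1, t] := MvPolynomial.ringHom_ext
    (fun a => by simp [pol]) fun i => by fin_cases i <;> simp [pol]
  exact RingHom.congr_fun e A

omit [IsAlgClosed k] in
/-- Homogenisation. -/
theorem exists_form_of_poly (F : Polynomial k) (e : ℕ) (hF : F.natDegree ≤ e) :
    ∃ A ∈ CohB1.polyGrading 1 k e, pol A = F ∧ eval ![(0 : k), 1] A = F.coeff e := by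
  refine ⟨∑ m ∈ Finset.range (e + 1), C (F.coeff m) * (X 0 ^ (e - m) * X 1 ^ m),
    Submodule.sum_mem _ fun m hm => ?_, ?_, ?_⟩
  · have h := ((MvPolynomial.isHomogeneous_X k (0 : Fin 2)).pow (e - m)).mul
      ((MvPolynomial.isHomogeneous_X k (1 : Fin 2)).pow m)
    rw [show 1 * (e - m) + 1 * m = e by have := Finset.mem_range_succ_iff.1 hm; omega] at h
    exact h.C_mul _
  · rw [map_sum]
    refine Eq.trans ?_ (Polynomial.as_sum_range' F (e + 1) (Nat.lt_succ_of_le hF)).symm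
    exact Finset.sum_congr rfl fun m _ => by simp [pol, Polynomial.C_mul_X_pow_eq_monomial]
  · rw [map_sum, Finset.sum_eq_single e]
    · simp
    · intro m hm hne
      have : e - m ≠ 0 := by have := Finset.mem_range_succ_iff.1 hm; omega
      simp [zero_pow this]
    · simp

omit [IsAlgClosed k] in
/-- Every nonzero tuple on the line is a multiple of an affine one or of infinity. -/
theorem tuple_cases (c : Fin 2 → k) (hc : c ≠ 0) :
    ∃ a : k, a ≠ 0 ∧ ((∃ t : k, c = a • ![1, t]) ∨ c = a • ![0, 1]) := by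
  by_cases h0 : c 0 = 0
  · refine ⟨c 1, fun h1 => hc (funext fun i => by fin_cases i <;> simp [h0, h1]), Or.inr ?_⟩
    funext i; fin_cases i <;> simp [h0]
  · refine ⟨c 0, h0, Or.inl ⟨c 1 / c 0, ?_⟩⟩
    funext i; fin_cases i <;> simp [mul_div_cancel₀ _ h0]

omit [IsAlgClosed k] in
theorem eval_smul_form {e : ℕ} {A : MvPolynomial (Fin 2) k} (hA : A ∈ CohB1.polyGrading 1 k e) (a : k)
    (c : Fin 2 → k) : eval (a • c) A = a ^ e * eval c A :=
  by
    have hA' := (MvPolynomial.mem_homogeneousSubmodule e A).1 hA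
    rw [eval_eq, eval_eq, Finset.mul_sum]
    refine Finset.sum_congr rfl fun m hm => ?_
    simp only [Pi.smul_apply, smul_eq_mul, mul_pow, Finset.prod_mul_distrib, Finset.prod_pow_eq_pow_sum,
      show ∑ i ∈ m.support, m i = e from hA'.degree_eq_sum_deg_support hm ▸ rfl]
    ring

omit [IsAlgClosed k] in
/-- Forms without common zero from polynomials without common root. -/
theorem exists_forms_of_polys (F : Fin (n + 1) → Polynomial k) (hF : ∀ t : k, ∃ i, (F i).eval t ≠ 0) :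
    ∃ (e : ℕ) (G : Fin (n + 1) → MvPolynomial (Fin 2) k), NoBase n e G ∧ (∀ i, pol (G i) = F i) ∧
      ∃ i, (F i).natDegree = e := by
  obtain ⟨i₁, -, hmax⟩ := Finset.exists_max_image Finset.univ (fun i => (F i).natDegree) Finset.univ_nonempty
  choose G hG hpol hinf using fun i => exists_form_of_poly (F i) (F i₁).natDegree (hmax i (Finset.mem_univ _))
  refine ⟨_, G, ⟨hG, fun c hc => ?_⟩, hpol, i₁, rfl⟩
  obtain ⟨a, ha, ⟨t, rfl⟩ | rfl⟩ := tuple_cases c hc
  · obtain ⟨i, hi⟩ := hF t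
    exact ⟨i, by rw [eval_smul_form (hG i), ← eval_pol, hpol]; exact mul_ne_zero (pow_ne_zero _ ha) hi⟩
  · obtain ⟨i₀, hi₀⟩ : ∃ i, (F i).coeff (F i₁).natDegree ≠ 0 := by
      by_cases h : F i₁ = 0
      · obtain ⟨i, hi⟩ := hF 0
        refine ⟨i, ?_⟩
        have h0 : (F i₁).natDegree = 0 := by rw [h, Polynomial.natDegree_zero]
        rw [h0, Polynomial.coeff_zero_eq_eval_zero]
        exact hi
      · exact ⟨i₁, Polynomial.leadingCoeff_ne_zero.2 h⟩
    exact ⟨i₀, by rw [eval_smul_form (hG i₀), hinf]; exact mul_ne_zero (pow_ne_zero _ ha) hi₀⟩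

/-- Two morphisms from the line agreeing on the closed points of a nonempty open are equal. -/
theorem agree_of_open {Z : Scheme.{u}} (q : Z ⟶ Spec (CommRingCat.of k)) [IsSeparated q]
    (f g : CohB1.ProjSpace 1 k ⟶ Z) (hf : f ≫ q = CohB1.ProjSpace.toSpec 1 k)
    (hg : g ≫ q = CohB1.ProjSpace.toSpec 1 k) (O : (CohB1.ProjSpace 1 k).Opens)
    (hO : (O : Set (CohB1.ProjSpace 1 k)).Nonempty) [LocallyOfFiniteType q]
    (h : ∀ y ∈ O, IsClosed ({y} : Set (CohB1.ProjSpace 1 k)) → f y = g y) : f = g := by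
  haveI : IsIntegral (CohB1.ProjSpace 1 k) := CurveP1.isIntegral k
  haveI := ProjMor.isProper_toSpec 1 k
  haveI : JacobsonSpace (CohB1.ProjSpace 1 k) := LocallyOfFiniteType.jacobsonSpace (CohB1.ProjSpace.toSpec 1 k)
  haveI : LocallyOfFiniteType (f ≫ q) := by rw [hf]; infer_instance
  exact ext_of_apply_eq q (O : Set _) O.2.isLocallyClosed (O.2.dense hO) h (hf.trans hg.symm)

omit [IsAlgClosed k] in
theorem ev_comp {X Y Z : Scheme.{u}} (s : X ⟶ Y) (g : Y ⟶ Z) {E : Z.Opens} {D : Y.Opens} {V : X.Opens}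
    (h1 : V ≤ s ⁻¹ᵁ D) (h2 : D ≤ g ⁻¹ᵁ E) (h3 : V ≤ (s ≫ g) ⁻¹ᵁ E) (z : Γ(Z, E)) :
    ProjMor.ev s D V h1 (ProjMor.ev g E D h2 z) = ProjMor.ev (s ≫ g) E V h3 z := by
  show (g.appLE E D h2 ≫ s.appLE D V h1) z = _
  rw [Scheme.Hom.appLE_comp_appLE]
  rfl

omit [IsAlgClosed k] in
theorem isUnit_res {X : Scheme.{u}} {U : X.Opens} (f : Γ(X, U)) (h : X.basicOpen f ≤ U) :
    IsUnit (resO X h f) := X.toRingedSpace.isUnit_res_basicOpen f

/-- Every morphism from the line to projective space is given by forms, of degree the degree. -/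
theorem exists_forms_of_mor (g : CohB1.ProjSpace 1 k ⟶ CohB1.ProjSpace n k)
    (hg : g ≫ CohB1.ProjSpace.toSpec n k = CohB1.ProjSpace.toSpec 1 k) :
    ∃ (e : ℕ) (G : Fin (n + 1) → MvPolynomial (Fin 2) k), NoBase n e G ∧
      Curv2.deg k (CohB1.ProjSpace 1 k) ((Scheme.Modules.pullback g).obj (Twist.twistProjSpace n k 1)) 1 = e ∧
      ∀ (y : CohB1.ProjSpace 1 k) (c : Fin 2 → k), IsPtOf (n := 1) y c →
        IsPtOf (n := n) (g y) (fun i => eval c (G i)) := by
  classical
  haveI : IsIntegral (CohB1.ProjSpace 1 k) := CurveP1.isIntegral k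
  haveI := ProjMor.isProper_toSpec 1 k
  haveI := ProjMor.isProper_toSpec n k
  haveI : JacobsonSpace (CohB1.ProjSpace 1 k) := LocallyOfFiniteType.jacobsonSpace (CohB1.ProjSpace.toSpec 1 k)
  let P₁ := CohB1.ProjSpace 1 k
  let U : P₁.Opens := PicPn.ch (k := k) (0 : Fin (1 + 1))
  have hU : IsAffineOpen U := PicPn.isAffineOpen_ch (k := k) (0 : Fin (1 + 1))
  have hξU : genericPoint P₁ ∈ U := by
    obtain ⟨s, -, hs⟩ := exists_pt (n := 1) (![1, 0] : Fin 2 → k) fun h => one_ne_zero (congrFun h 0)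
    refine ((genericPoint_spec P₁).mem_open_set_iff U.2).2 ⟨s (IsLocalRing.closedPoint k), trivial, ?_⟩
    exact (ProjectiveSpectrum.mem_basicOpen _ _ _).2 fun h =>
      one_ne_zero (α := k) (by simpa using (hs.2 (PicPn.X_mem 0)).1 h)
  obtain ⟨l, hl⟩ := PicPn.exists_mem_ch (k := k) (n := n) (g (genericPoint P₁))
  obtain ⟨f, hfle, hξf⟩ := hU.exists_basicOpen_le (V := U ⊓ g ⁻¹ᵁ PicPn.ch (k := k) l)
    ⟨genericPoint P₁, hξU, hl⟩ hξU
  let D : P₁.Opens := P₁.basicOpen f
  have hDU : D ≤ U := hfle.trans inf_le_left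
  have hDg : D ≤ g ⁻¹ᵁ PicPn.ch (k := k) l := hfle.trans inf_le_right
  let ρ : Fin (n + 1) → Γ(P₁, D) := fun j => ProjMor.ev g _ D hDg (PicPn.z l j)
  letI : Algebra Γ(P₁, U) Γ(P₁, D) := (resO P₁ hDU).toAlgebra
  haveI : IsLocalization.Away f Γ(P₁, D) := hU.isLocalization_basicOpen f
  obtain ⟨Gf, hGf⟩ := ProjMor.exists_deh_eq (PicPn.X_mem (k := k) (0 : Fin (1 + 1))) f
  have hloc : ∀ j, ∃ (m : ℕ) (A : MvPolynomial (Fin 2) k),
      ρ j * resO P₁ hDU f ^ m = resO P₁ hDU (GrT.deh _ (PicPn.X_mem (k := k) (0 : Fin (1 + 1))) A) := fun j => by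
    obtain ⟨m, a, ha⟩ := IsLocalization.Away.surj f (ρ j)
    obtain ⟨A, rfl⟩ := ProjMor.exists_deh_eq (PicPn.X_mem (k := k) (0 : Fin (1 + 1))) a
    exact ⟨m, A, ha⟩
  choose m A hA using hloc
  let M := ∑ j, m j
  have hmM : ∀ j, m j ≤ M := fun j => Finset.single_le_sum (fun i _ => Nat.zero_le _) (Finset.mem_univ j)
  let F : Fin (n + 1) → Polynomial k := fun j => pol (A j) * pol Gf ^ (M - m j)
  have key : ∀ y ∈ D, IsClosed ({y} : Set P₁) → ∃ (t b : k) (c' : Fin (n + 1) → k), b ≠ 0 ∧ c' l = 1 ∧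
      IsPtOf (n := 1) y ![1, t] ∧ IsPtOf (n := n) (g y) c' ∧ ∀ j, (F j).eval t = c' j * b := by
    intro y hyD hy
    let s := pointOfClosedPoint (CohB1.ProjSpace.toSpec 1 k) y hy
    have hs := pointOfClosedPoint_comp (CohB1.ProjSpace.toSpec 1 k) y hy
    have hsy : s (IsLocalRing.closedPoint k) = y := pointOfClosedPoint_apply (CohB1.ProjSpace.toSpec 1 k) y hy _
    have hsD : ⊤ ≤ s ⁻¹ᵁ D := fun z _ => by
      obtain rfl : z = IsLocalRing.closedPoint k := Subsingleton.elim _ _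
      show s _ ∈ D
      rw [hsy]; exact hyD
    obtain ⟨c, hc0, hc, hcA⟩ := isPtOf_ev (n := 1) s hs 0 (hsD.trans (s.preimage_mono hDU))
    obtain ⟨c', hc'l, hc', hc'A⟩ := isPtOf_ev (n := n) (s ≫ g) (by rw [Category.assoc, hg, hs]) l
      (hsD.trans (s.preimage_mono hDg))
    have hct : c = ![1, c 1] := funext fun i => by fin_cases i <;> simp [hc0]
    let ψ : Γ(P₁, D) →+* k :=
      (Scheme.ΓSpecIso (CommRingCat.of k)).hom.hom.comp (ProjMor.ev s D ⊤ hsD)
    have hψ : ∀ B, ψ (resO P₁ hDU (GrT.deh _ (PicPn.X_mem (k := k) (0 : Fin (1 + 1))) B)) = eval c B := fun B =>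
      (congrArg (Scheme.ΓSpecIso (CommRingCat.of k)).hom.hom
        (ProjMor.ev_resO s hsD hDU (GrT.deh _ (PicPn.X_mem (k := k) (0 : Fin (1 + 1))) B))).trans (hcA B)
    have hψρ : ∀ j, ψ (ρ j) = c' j := fun j =>
      ((congrArg (Scheme.ΓSpecIso (CommRingCat.of k)).hom.hom
        (ev_comp s g hsD hDg (hsD.trans (s.preimage_mono hDg)) (PicPn.z l j))).trans (hc'A (X j))).trans (eval_X j)
    have hb : eval c Gf ≠ 0 := fun h0 => by
      have hu : IsUnit (resO P₁ hDU f) := isUnit_res f hDU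
      have h := hu.map ψ
      rw [← hGf, hψ, h0] at h
      exact not_isUnit_zero h
    rw [hsy] at hc
    rw [Scheme.Hom.comp_apply, hsy] at hc'
    refine ⟨c 1, eval c Gf ^ M, c', pow_ne_zero _ hb, hc'l, hct ▸ hc, hc', fun j => ?_⟩
    simp only [F, Polynomial.eval_mul, Polynomial.eval_pow, eval_pol, ← hct]
    have e := congrArg ψ (hA j)
    rw [map_mul, map_pow, hψρ, ← hGf, hψ, hψ] at e
    rw [← e, mul_assoc, ← pow_add, Nat.add_sub_cancel' (hmM j)]
  obtain ⟨y₀, hy₀D, hy₀⟩ := nonempty_inter_closedPoints ⟨_, hξf⟩ D.2.isLocallyClosed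
  obtain ⟨t₀, b₀, c₀, hb₀, hc₀, -, -, hF₀⟩ := key y₀ hy₀D hy₀
  have hFl : F l ≠ 0 := fun h => by
    have := hF₀ l
    rw [h, Polynomial.eval_zero, hc₀, one_mul] at this
    exact hb₀ this.symm
  obtain ⟨F', hF', hgcd⟩ := Finset.extract_gcd F (Finset.univ_nonempty (α := Fin (n + 1)))
  set H := Finset.univ.gcd F with hH
  obtain ⟨e, G, hG, hpol, -⟩ := exists_forms_of_polys (n := n) F' fun t => by
    by_contra hn
    push Not at hn
    have hd : Polynomial.X - Polynomial.C t ∣ Finset.univ.gcd F' :=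
      Finset.dvd_gcd fun i _ => Polynomial.dvd_iff_isRoot.2 (hn i)
    rw [hgcd] at hd
    exact Polynomial.not_isUnit_X_sub_C t (isUnit_of_dvd_one hd)
  obtain ⟨r, hr, hdeg, hrp⟩ := exists_mor_forms hG
  have hgr : g = r := agree_of_open (CohB1.ProjSpace.toSpec n k) g r hg hr D ⟨_, hξf⟩ fun y hyD hy => by
    obtain ⟨t, b, c', hb, hc'l, hyt, hgy, hFt⟩ := key y hyD hy
    have hFF' : ∀ j, H.eval t * (F' j).eval t = c' j * b := fun j => by
      rw [← Polynomial.eval_mul, ← hF' j (Finset.mem_univ j), hFt]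
    have hHt : H.eval t ≠ 0 := fun h => by
      have := hFF' l
      rw [h, zero_mul, hc'l, one_mul] at this
      exact hb this.symm
    have h1 := (hrp y _ hyt).smul hHt
    have h2 := hgy.smul hb
    have e : (H.eval t • fun i => eval ![1, t] (G i)) = b • c' := funext fun i => by
      show H.eval t * eval ![1, t] (G i) = b * c' i
      rw [← eval_pol, hpol, hFF', mul_comm]
    rw [e] at h1
    exact h2.eq h1
  subst hgr
  exact ⟨e, G, hG, hdeg, hrp⟩

end Groth.Agent.RatDeg
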