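import Groth.Agent.RatDeg.Valued
import Groth.Agent.RatDeg.Closure
import Groth.Agent.RatDeg.P1Forms
import Groth.Agent.AlgStLib.RedSub
import Groth.Prelude.Def_CurvBase

/-!
# The locus of rational curves of bounded degree is closed
-/

set_option autoImplicit false
set_option linter.style.haveILetI false
set_option backward.isDefEq.respectTransparency false
set_option backward.isDefEq.respectTransparency.types false
set_option synthInstance.maxHeartbeats 400000
set_option maxHeartbeats 1000000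

universe u

open CategoryTheory AlgebraicGeometry TopologicalSpace
open Groth.Agent.GenusZeroDesc

noncomputable section

namespace Groth.Agent.RatDeg

variable {k : Type u} [Field k] [IsAlgClosed k] {X : Scheme.{u}} {N : ℕ}

/-- The tuples of the closed points of `X`. -/
def XX (ι : X ⟶ CohB1.ProjSpace N k) : Set (Fin (N + 1) → k) :=
  {c | ∃ z : X, IsClosed ({z} : Set X) ∧ IsPtOf (n := N) (ι z) c}

/-- The forms vanishing on `X`. -/
def IsEq (ι : X ⟶ CohB1.ProjSpace N k) (m : ℕ) (A : MvPolynomial (Fin (N + 1)) k) : Prop :=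
  A ∈ CohB1.polyGrading N k m ∧ ∀ c ∈ XX ι, MvPolynomial.eval c A = 0

variable (ι : X ⟶ CohB1.ProjSpace N k) [IsClosedImmersion ι]
  (hq : LocallyOfFiniteType (ι ≫ CohB1.ProjSpace.toSpec N k))

include hq in
/-- A point killed by the equations is in `X`. -/
theorem mem_range_of_eqs {y : CohB1.ProjSpace N k} {c : Fin (N + 1) → k} (hy : IsPtOf (n := N) y c)
    (h : ∀ m A, IsEq ι m A → MvPolynomial.eval c A = 0) : y ∈ Set.range ι := by
  classical
  haveI := hq
  haveI : JacobsonSpace X := LocallyOfFiniteType.jacobsonSpace (ι ≫ CohB1.ProjSpace.toSpec N k)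
  obtain ⟨S, hS⟩ := (ProjectiveSpectrum.isClosed_iff_zeroLocus (CohB1.polyGrading N k) _).1 ι.isClosedEmbedding.isClosed_range
  have hcomp : ∀ a ∈ S, ∀ j, IsEq ι j ((DirectSum.decompose (CohB1.polyGrading N k) a) j).1 := fun a ha j => by
    refine ⟨SetLike.coe_mem _, fun c' ⟨z, _, hzc⟩ => (hzc.2 (SetLike.coe_mem _)).1 ?_⟩
    have hz : ι z ∈ ProjectiveSpectrum.zeroLocus (CohB1.polyGrading N k) S := hS ▸ Set.mem_range_self z
    exact (show ProjectiveSpectrum (CohB1.polyGrading N k) from ι z).asHomogeneousIdeal.2 j (hz ha)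
  have hmem : (show ProjectiveSpectrum (CohB1.polyGrading N k) from y) ∈
      ProjectiveSpectrum.zeroLocus (CohB1.polyGrading N k) S := fun a ha => by
    show a ∈ pr y
    rw [← DirectSum.sum_support_decompose (CohB1.polyGrading N k) a]
    exact Ideal.sum_mem _ fun j _ => (hy.2 (SetLike.coe_mem _)).2 (h j _ (hcomp a ha j))
  rw [hS]
  exact hmem

/-- `x` lies on a rational curve of degree at most `d`. -/
def HasCurve (d : ℕ) (x : X) : Prop :=
  ∃ g : CohB1.ProjSpace 1 k ⟶ X, g ≫ ι ≫ CohB1.ProjSpace.toSpec N k = CohB1.ProjSpace.toSpec 1 k ∧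
    (¬ ∃ y : X, Set.range g.base ⊆ {y}) ∧ x ∈ Set.range g.base ∧
    Curv2.deg k (CohB1.ProjSpace 1 k) ((Scheme.Modules.pullback (g ≫ ι)).obj (Twist.twistProjSpace N k 1)) 1 ≤ d

section System

variable (d : ℕ) (a : Fin (N + 1))

/-- The variables: coefficients and inverses. -/
abbrev Vars (N d : ℕ) : Type := (Fin (N + 1) × Fin (d + 1)) ⊕ (Fin (N + 1) × Fin (d + 1))

/-- The generic curve. -/
def gen (j : Fin (N + 1)) : Polynomial (MvPolynomial (Fin (N + 1) ⊕ Vars N d) k) :=
  ∑ m : Fin (d + 1), Polynomial.monomial (m : ℕ) (MvPolynomial.X (Sum.inr (Sum.inl (j, m))))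

/-- The equations of a nonconstant curve in `X` through the point with coordinate `a` equal to one. -/
def sys : Set (MvPolynomial (Fin (N + 1) ⊕ Vars N d) k) :=
  insert (MvPolynomial.X (Sum.inl a) - 1)
    (insert ((∑ i : Fin (N + 1) × Fin (d + 1), MvPolynomial.X (Sum.inr (Sum.inr i)) *
      (MvPolynomial.X (Sum.inr (Sum.inl i)) -
        MvPolynomial.X (Sum.inl i.1) * MvPolynomial.X (Sum.inr (Sum.inl (a, i.2))))) - 1)
      (Set.range (fun j : Fin (N + 1) =>
          MvPolynomial.X (Sum.inr (Sum.inl (j, 0))) - MvPolynomial.X (Sum.inl j)) ∪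
        {P | ∃ m A, IsEq ι m A ∧ ∃ r : ℕ,
          P = (MvPolynomial.eval₂ (Polynomial.C.comp MvPolynomial.C) (gen (k := k) (N := N) d) A).coeff r}))

variable {L : Type u} [Field L] (ψ : k →+* L)

/-- The curve of a solution. -/
def curveOf (z : Vars N d → L) (j : Fin (N + 1)) : Polynomial L :=
  ∑ m : Fin (d + 1), Polynomial.monomial (m : ℕ) (z (Sum.inl (j, m)))

omit [IsAlgClosed k] in
theorem coeff_curveOf (z : Vars N d → L) (j : Fin (N + 1)) (m : Fin (d + 1)) :
    (curveOf (N := N) d z j).coeff m = z (Sum.inl (j, m)) := by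
  simp [curveOf, Polynomial.coeff_monomial, Fin.val_inj]

omit [IsAlgClosed k] in
theorem natDegree_curveOf (z : Vars N d → L) (j : Fin (N + 1)) : (curveOf (N := N) d z j).natDegree ≤ d :=
  Polynomial.natDegree_sum_le_of_forall_le _ _ fun m _ =>
    (Polynomial.natDegree_monomial_le _).trans (Nat.le_of_lt_succ m.2)

/-- A solution of the system. -/
theorem sys_solution (y : Fin (N + 1) → L) (z : Vars N d → L)
    (h : ∀ P ∈ sys ι d a, MvPolynomial.eval₂ ψ (Sum.elim y z) P = 0) :
    IsCurve a y d (curveOf d z) ∧ y a = 1 ∧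
      ∀ m A, IsEq ι m A → MvPolynomial.eval₂ (Polynomial.C.comp ψ) (curveOf d z) A = 0 := by
  have h1 : y a = 1 := by
    have := h _ (Set.mem_insert _ _)
    simpa [sub_eq_zero] using this
  have h2 := h _ (Set.mem_insert_of_mem _ (Set.mem_insert _ _))
  simp only [MvPolynomial.eval₂_sub, MvPolynomial.eval₂_sum, MvPolynomial.eval₂_mul, MvPolynomial.eval₂_X,
    MvPolynomial.eval₂_one, Sum.elim_inl, Sum.elim_inr, sub_eq_zero] at h2
  refine ⟨⟨natDegree_curveOf d z, fun j => ?_, ?_⟩, h1, fun m A hA => ?_⟩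
  · rw [← Polynomial.coeff_zero_eq_eval_zero]
    refine (coeff_curveOf d z j 0).trans ?_
    have := h _ (Set.mem_insert_of_mem _ (Set.mem_insert_of_mem _ (Or.inl ⟨j, rfl⟩)))
    simpa [sub_eq_zero] using this
  · by_contra hc
    push Not at hc
    refine one_ne_zero (α := L) (h2.symm.trans (Finset.sum_eq_zero fun i _ => ?_))
    have e := congrArg (fun q => q.coeff (i.2 : ℕ)) (hc i.1)
    simp only [Polynomial.coeff_C_mul, coeff_curveOf] at e
    rw [show (Sum.inl i : Vars N d) = Sum.inl (i.1, i.2) from rfl, e, sub_self, mul_zero]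
  · let θ : MvPolynomial (Fin (N + 1) ⊕ Vars N d) k →+* L := MvPolynomial.eval₂Hom ψ (Sum.elim y z)
    have hθ : ∀ j, (gen (k := k) (N := N) d j).map θ = curveOf d z j := fun j => by
      simp [gen, curveOf, Polynomial.map_sum, θ]
    refine Polynomial.ext fun r => ?_
    have e := MvPolynomial.eval₂_comp_left (Polynomial.mapRingHom θ) (Polynomial.C.comp MvPolynomial.C)
      (gen (k := k) (N := N) d) A
    rw [show (Polynomial.mapRingHom θ).comp (Polynomial.C.comp MvPolynomial.C) = Polynomial.C.comp ψ from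
        RingHom.ext fun c => by simp [θ],
      show Polynomial.mapRingHom θ ∘ gen (k := k) (N := N) d = curveOf d z from funext hθ] at e
    rw [← e, Polynomial.coe_mapRingHom, Polynomial.coeff_map, Polynomial.coeff_zero]
    exact h _ (Set.mem_insert_of_mem _ (Set.mem_insert_of_mem _ (Or.inr ⟨m, A, hA, r, rfl⟩)))

/-- A curve gives a solution. -/
theorem exists_sys (y : Fin (N + 1) → L) (hya : y a = 1) (F : Fin (N + 1) → Polynomial L) (hF : IsCurve a y d F)
    (hA : ∀ m A, IsEq ι m A → MvPolynomial.eval₂ (Polynomial.C.comp ψ) F A = 0) :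
    ∃ z : Vars N d → L, ∀ P ∈ sys ι d a, MvPolynomial.eval₂ ψ (Sum.elim y z) P = 0 := by
  classical
  obtain ⟨j, hj⟩ := hF.nc
  obtain ⟨r, hr⟩ : ∃ r : Fin (d + 1), (F j).coeff r - y j * (F a).coeff r ≠ 0 := by
    by_contra hc
    push Not at hc
    refine hj (Polynomial.ext fun r => ?_)
    rw [Polynomial.coeff_C_mul]
    by_cases hr : r ≤ d
    · exact sub_eq_zero.1 (hc ⟨r, Nat.lt_succ_of_le hr⟩)
    · rw [Polynomial.coeff_eq_zero_of_natDegree_lt ((hF.deg j).trans_lt (not_le.1 hr)),
        Polynomial.coeff_eq_zero_of_natDegree_lt ((hF.deg a).trans_lt (not_le.1 hr)), mul_zero]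
  let z : Vars N d → L := Sum.elim (fun i => (F i.1).coeff i.2)
    (fun i => if i = (j, r) then ((F j).coeff r - y j * (F a).coeff r)⁻¹ else 0)
  have hz : curveOf d z = F := funext fun i => by
    refine Eq.trans ?_ (Polynomial.as_sum_range' (F i) (d + 1) (Nat.lt_succ_of_le (hF.deg i))).symm
    exact Fin.sum_univ_eq_sum_range (fun m => Polynomial.monomial m ((F i).coeff m)) (d + 1)
  refine ⟨z, ?_⟩
  rintro P (rfl | rfl | ⟨i, rfl⟩ | ⟨m, A, hA', r', rfl⟩)
  · simp [hya]
  · simp only [MvPolynomial.eval₂_sub, MvPolynomial.eval₂_sum, MvPolynomial.eval₂_mul, MvPolynomial.eval₂_X,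
      MvPolynomial.eval₂_one, Sum.elim_inl, Sum.elim_inr, z]
    rw [Finset.sum_eq_single (j, r) (fun i _ hi => by rw [if_neg hi, zero_mul]) (fun h => absurd (Finset.mem_univ _) h),
      if_pos rfl, inv_mul_cancel₀ hr, sub_self]
  · simp [z, Polynomial.coeff_zero_eq_eval_zero, hF.zero]
  · let θ : MvPolynomial (Fin (N + 1) ⊕ Vars N d) k →+* L := MvPolynomial.eval₂Hom ψ (Sum.elim y z)
    have hθ : ∀ i, (gen (k := k) (N := N) d i).map θ = F i := fun i => by
      rw [← hz]; simp [gen, curveOf, Polynomial.map_sum, θ]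
    have e := MvPolynomial.eval₂_comp_left (Polynomial.mapRingHom θ) (Polynomial.C.comp MvPolynomial.C)
      (gen (k := k) (N := N) d) A
    rw [show (Polynomial.mapRingHom θ).comp (Polynomial.C.comp MvPolynomial.C) = Polynomial.C.comp ψ from
        RingHom.ext fun c => by simp [θ],
      show Polynomial.mapRingHom θ ∘ gen (k := k) (N := N) d = F from funext hθ, hA m A hA'] at e
    have e' := congrArg (fun q => q.coeff r') e
    rw [Polynomial.coe_mapRingHom] at e'
    simpa [θ] using e'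

end System

variable {d : ℕ}

omit [IsClosedImmersion ι] [IsAlgClosed k] in
theorem natDegree_subst {e : ℕ} {A : MvPolynomial (Fin 2) k} (hA : A ∈ CohB1.polyGrading 1 k e)
    (l : Fin 2 → Polynomial k) (hl : ∀ i, (l i).natDegree ≤ 1) :
    (MvPolynomial.eval₂ Polynomial.C l A).natDegree ≤ e := by
  rw [MvPolynomial.eval₂_eq]
  refine Polynomial.natDegree_sum_le_of_forall_le _ _ fun m hm => (Polynomial.natDegree_C_mul_le _ _).trans ?_
  refine (Polynomial.natDegree_prod_le _ _).trans ?_
  rw [((MvPolynomial.mem_homogeneousSubmodule e A).1 hA).degree_eq_sum_deg_support hm]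
  exact Finset.sum_le_sum fun i _ => Polynomial.natDegree_pow_le.trans
    ((Nat.mul_le_mul_left _ (hl i)).trans (mul_one _).le)

include hq in
/-- A curve through a point gives a solution. -/
theorem solution_of_curve {x : X} (hx : IsClosed ({x} : Set X)) (h : HasCurve ι d x) {a : Fin (N + 1)}
    {c : Fin (N + 1) → k} (hc : IsPtOf (n := N) (ι x) c) (hca : c a = 1) :
    ∃ z : Vars N d → k, ∀ P ∈ sys ι d a, MvPolynomial.eval (Sum.elim c z) P = 0 := by
  classical
  haveI := hq
  haveI := ProjMor.isProper_toSpec 1 k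
  haveI : JacobsonSpace (CohB1.ProjSpace 1 k) := LocallyOfFiniteType.jacobsonSpace (CohB1.ProjSpace.toSpec 1 k)
  obtain ⟨g, hg, hnc, hxg, hdeg⟩ := h
  obtain ⟨e, G, hG, hge, hgp⟩ := exists_forms_of_mor (g ≫ ι) (by rw [Category.assoc]; exact hg)
  have hed : e ≤ d := by rw [hge] at hdeg; exact_mod_cast hdeg
  obtain ⟨y₀, hy₀x, hy₀⟩ := nonempty_inter_closedPoints (Z := g.base ⁻¹' {x})
    (by obtain ⟨y, hy⟩ := hxg; exact ⟨y, hy⟩) (hx.preimage g.continuous).isLocallyClosed
  obtain ⟨c₀, hc₀⟩ := exists_tuple y₀ hy₀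
  have hgx : (g ≫ ι) y₀ = ι x := by rw [Scheme.Hom.comp_apply]; exact congrArg ι hy₀x
  obtain ⟨t, ht, htG⟩ := proportional hc (hgx ▸ hgp y₀ c₀ hc₀)
  obtain ⟨d₀, hd₀0, hd₀⟩ : ∃ d₀ : Fin 2 → k, d₀ ≠ 0 ∧ ∀ c' : Fin 2 → k, ∃ α β : k, c' = α • c₀ + β • d₀ := by
    by_cases h0 : c₀ 0 = 0
    · have h1 : c₀ 1 ≠ 0 := fun h1 => hc₀.1 (funext fun i => by fin_cases i <;> simp [h0, h1])
      refine ⟨![1, 0], fun h => one_ne_zero (congrFun h 0), fun c' => ⟨c' 1 / c₀ 1, c' 0, funext fun i => ?_⟩⟩
      fin_cases i <;> simp [h0, h1]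
    · refine ⟨![0, 1], fun h => one_ne_zero (congrFun h 1), fun c' => ⟨c' 0 / c₀ 0, c' 1 - c' 0 / c₀ 0 * c₀ 1, funext fun i => ?_⟩⟩
      fin_cases i <;> simp [h0]
  let l : Fin 2 → Polynomial k := fun i => Polynomial.C (c₀ i) + Polynomial.C (d₀ i) * Polynomial.X
  let F : Fin (N + 1) → Polynomial k := fun i => Polynomial.C t⁻¹ * MvPolynomial.eval₂ Polynomial.C l (G i)
  have hFev : ∀ i s, (F i).eval s = t⁻¹ * MvPolynomial.eval (c₀ + s • d₀) (G i) := fun i s => by
    have e1 := MvPolynomial.eval₂_comp_left (Polynomial.evalRingHom s) Polynomial.C l (G i)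
    rw [show (Polynomial.evalRingHom s).comp Polynomial.C = RingHom.id k from RingHom.ext fun c => by simp,
      show Polynomial.evalRingHom s ∘ l = c₀ + s • d₀ from funext fun i => by simp [l, mul_comm s]] at e1
    simp only [F, Polynomial.eval_mul, Polynomial.eval_C]
    exact congrArg (t⁻¹ * ·) e1
  have hzero : ∀ i, (F i).eval 0 = c i := fun i => by
    rw [hFev, zero_smul, add_zero, congrFun htG i, Pi.smul_apply, smul_eq_mul, ← mul_assoc, inv_mul_cancel₀ ht, one_mul]
  have hXX : ∀ c' : Fin 2 → k, c' ≠ 0 → (fun i => MvPolynomial.eval c' (G i)) ∈ XX ι := fun c' hc' => by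
    obtain ⟨s, hs, hsc⟩ := exists_pt (n := 1) c' hc'
    refine ⟨g (s (IsLocalRing.closedPoint k)), ?_, ?_⟩
    · exact ((pointEquivClosedPoint (ι ≫ CohB1.ProjSpace.toSpec N k)) ⟨s ≫ g, by rw [Category.assoc, hg, hs]⟩).2
    · rw [← Scheme.Hom.comp_apply]; exact hgp _ _ hsc
  have hnc' : ∃ j, F j ≠ Polynomial.C (c j) * F a := by
    by_contra hcon
    push Not at hcon
    have hline : ∀ j s, MvPolynomial.eval (c₀ + s • d₀) (G j) = c j * MvPolynomial.eval (c₀ + s • d₀) (G a) := fun j s => by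
      have := congrArg (fun q => q.eval s) (hcon j)
      simp only [Polynomial.eval_mul, Polynomial.eval_C, hFev] at this
      exact mul_left_cancel₀ (inv_ne_zero ht) (this.trans (by ring))
    have hall : ∀ c' : Fin 2 → k, ∀ j, MvPolynomial.eval c' (G j) = c j * MvPolynomial.eval c' (G a) := by
      intro c' j
      obtain ⟨α, β, rfl⟩ := hd₀ c'
      let q : Polynomial k :=
        MvPolynomial.eval₂ Polynomial.C (fun i => Polynomial.C (c₀ i) * Polynomial.X + Polynomial.C (β * d₀ i))
          (G j - MvPolynomial.C (c j) * G a)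
      have hq' : ∀ s, q.eval s = MvPolynomial.eval (s • c₀ + β • d₀) (G j - MvPolynomial.C (c j) * G a) := fun s => by
        have e1 := MvPolynomial.eval₂_comp_left (Polynomial.evalRingHom s) Polynomial.C
          (fun i => Polynomial.C (c₀ i) * Polynomial.X + Polynomial.C (β * d₀ i)) (G j - MvPolynomial.C (c j) * G a)
        rw [show (Polynomial.evalRingHom s).comp Polynomial.C = RingHom.id k from RingHom.ext fun c => by simp,
          show (Polynomial.evalRingHom s ∘ fun i => Polynomial.C (c₀ i) * Polynomial.X + Polynomial.C (β * d₀ i)) =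
            s • c₀ + β • d₀ from funext fun i => by simp [mul_comm s]] at e1
        exact e1
      have hq0 : q = 0 := Polynomial.eq_zero_of_infinite_isRoot _ ((Set.finite_singleton (0 : k)).infinite_compl.mono
        fun s (hs : s ≠ 0) => by
          show q.eval s = 0
          rw [hq', show s • c₀ + β • d₀ = s • (c₀ + (β / s) • d₀) by
            rw [smul_add, smul_smul, mul_div_cancel₀ _ hs], map_sub, map_mul, MvPolynomial.eval_C,
            eval_smul_form (hG.1 j), eval_smul_form (hG.1 a), hline]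
          ring)
      have := hq' α
      rw [hq0, Polynomial.eval_zero, map_sub, map_mul, MvPolynomial.eval_C] at this
      exact sub_eq_zero.1 this.symm
    refine hnc ⟨x, ?_⟩
    have hcl : closedPoints (CohB1.ProjSpace 1 k) ⊆ g.base ⁻¹' {x} := fun y hy => by
      obtain ⟨c', hc'⟩ := exists_tuple y hy
      have h1 := hgp y c' hc'
      have hGa : MvPolynomial.eval c' (G a) ≠ 0 := fun h0 =>
        h1.1 (funext fun j => (hall c' j).trans (by rw [h0, mul_zero]; rfl))
      have e2 : (fun i => MvPolynomial.eval c' (G i)) = MvPolynomial.eval c' (G a) • c := funext fun j => by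
        show _ = MvPolynomial.eval c' (G a) * c j
        rw [hall c' j, mul_comm]
      rw [e2, Scheme.Hom.comp_apply] at h1
      exact ι.isClosedEmbedding.injective (h1.eq (hc.smul hGa))
    rintro _ ⟨y, rfl⟩
    have huniv := closure_minimal hcl (hx.preimage g.continuous)
    rw [← Set.univ_inter (closedPoints (CohB1.ProjSpace 1 k)),
      JacobsonSpace.closure_inter_closedPoints_eq_closure isClosed_univ.isLocallyClosed, closure_univ] at huniv
    exact huniv trivial
  obtain ⟨z, hz⟩ := exists_sys ι d a (RingHom.id k) c hca F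
    ⟨fun i => ((Polynomial.natDegree_C_mul_le _ _).trans (natDegree_subst (hG.1 i) l fun i =>
      Polynomial.natDegree_add_le_of_degree_le (by simp) (Polynomial.natDegree_C_mul_le _ _ |>.trans (by simp)))).trans hed,
      hzero, hnc'⟩
    fun m A hA => by
      refine Polynomial.eq_zero_of_infinite_isRoot _ ((Set.Subsingleton.finite (s := {s : k | c₀ + s • d₀ = 0})
        fun s (hs : c₀ + s • d₀ = 0) s' (hs' : c₀ + s' • d₀ = 0) =>
          smul_left_injective k hd₀0 (add_left_cancel (hs.trans hs'.symm))).infinite_compl.mono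
        fun s (hs : c₀ + s • d₀ ≠ 0) => ?_)
      show (MvPolynomial.eval₂ (Polynomial.C.comp (RingHom.id k)) F A).eval s = 0
      rw [eval_eval₂]
      obtain ⟨w, hw, hwp⟩ := hXX _ hs
      have := hA.2 _ ⟨w, hw, hwp.smul (inv_ne_zero ht)⟩
      simp only [hFev]
      exact this
  exact ⟨z, fun P hP => hz P hP⟩

include hq in
/-- A solution gives a curve through the point. -/
theorem curve_of_solution {a : Fin (N + 1)} {c : Fin (N + 1) → k} {z : Vars N d → k}
    (hz : ∀ P ∈ sys ι d a, MvPolynomial.eval (Sum.elim c z) P = 0) :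
    ∃ x : X, IsClosed ({x} : Set X) ∧ IsPtOf (n := N) (ι x) c ∧ HasCurve ι d x := by
  classical
  haveI := hq
  obtain ⟨hF, hca, hA⟩ := sys_solution ι d a (RingHom.id k) c z hz
  set F := curveOf (N := N) d z
  haveI : IsIntegral (CohB1.ProjSpace 1 k) := CurveP1.isIntegral k
  haveI := ProjMor.isProper_toSpec 1 k
  haveI : JacobsonSpace (CohB1.ProjSpace 1 k) := LocallyOfFiniteType.jacobsonSpace (CohB1.ProjSpace.toSpec 1 k)
  obtain ⟨F', hF', hgcd⟩ := Finset.extract_gcd F (Finset.univ_nonempty (α := Fin (N + 1)))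
  set H := Finset.univ.gcd F
  have hFF' : ∀ i, F i = H * F' i := fun i => hF' i (Finset.mem_univ i)
  have hH0 : H.eval 0 ≠ 0 := fun h => by
    have := hF.zero a
    rw [hFF', Polynomial.eval_mul, h, zero_mul, hca] at this
    exact zero_ne_one this
  have hHne : H ≠ 0 := fun h => hH0 (by rw [h, Polynomial.eval_zero])
  obtain ⟨e, G, hG, hpol, i₁, hi₁⟩ := exists_forms_of_polys (n := N) F' fun t => by
    by_contra hn
    push Not at hn
    have hd : Polynomial.X - Polynomial.C t ∣ Finset.univ.gcd F' :=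
      Finset.dvd_gcd fun i _ => Polynomial.dvd_iff_isRoot.2 (hn i)
    rw [hgcd] at hd
    exact Polynomial.not_isUnit_X_sub_C t (isUnit_of_dvd_one hd)
  have hed : e ≤ d := by
    rw [← hi₁]
    by_cases h0 : F' i₁ = 0
    · simp [h0]
    · refine le_trans ?_ (hF.deg i₁)
      rw [hFF', Polynomial.natDegree_mul hHne h0]
      exact Nat.le_add_left _ _
  obtain ⟨r, hr, hdeg, hrp⟩ := exists_mor_forms hG
  have hAF' : ∀ m A, IsEq ι m A → MvPolynomial.eval₂ Polynomial.C F' A = 0 := fun m A hA' => by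
    have h1 : MvPolynomial.eval₂ (Polynomial.C.comp (RingHom.id k)) F A = 0 := hA m A hA'
    rw [RingHom.comp_id, show F = fun i => H * F' i from funext hFF',
      eval₂_smul_of_homogeneous _ ((MvPolynomial.mem_homogeneousSubmodule m A).1 hA'.1), mul_eq_zero] at h1
    exact h1.resolve_left (pow_ne_zero _ hHne)
  have haff : ∀ (y : CohB1.ProjSpace 1 k) (t : k), IsPtOf (n := 1) y ![1, t] →
      IsPtOf (n := N) (r y) (fun i => (F' i).eval t) := fun y t hy => by
    have h1 := hrp y _ hy
    simp only [← eval_pol, hpol] at h1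
    exact h1
  have hrange : ∀ y, r y ∈ Set.range ι := by
    let U : (CohB1.ProjSpace 1 k).Opens := PicPn.ch (k := k) (0 : Fin (1 + 1))
    have hsub : (U : Set (CohB1.ProjSpace 1 k)) ∩ closedPoints _ ⊆ r.base ⁻¹' Set.range ι := fun y ⟨hyU, hy⟩ => by
      obtain ⟨c', hc'⟩ := exists_tuple y hy
      have hc'0 : c' 0 ≠ 0 := fun h0 => (ProjectiveSpectrum.mem_basicOpen _ _ _).1 hyU
        ((hc'.2 (PicPn.X_mem 0)).2 (by rw [MvPolynomial.eval_X, h0]))
      have h1 := hc'.smul (inv_ne_zero hc'0)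
      rw [show (c' 0)⁻¹ • c' = ![1, c' 1 / c' 0] from funext fun i => by
        fin_cases i <;> simp [hc'0, div_eq_inv_mul]] at h1
      refine mem_range_of_eqs ι hq (haff y _ h1) fun m A hA' => ?_
      have h2 := congrArg (fun q => q.eval (c' 1 / c' 0)) (hAF' m A hA')
      simp only [Polynomial.eval_zero] at h2
      rw [← RingHom.comp_id Polynomial.C, eval_eval₂] at h2
      exact h2
    have hne : (U : Set (CohB1.ProjSpace 1 k)).Nonempty := by
      obtain ⟨s, -, hs⟩ := exists_pt (n := 1) (![1, 0] : Fin 2 → k) fun h => one_ne_zero (congrFun h 0)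
      exact ⟨s (IsLocalRing.closedPoint k), (ProjectiveSpectrum.mem_basicOpen _ _ _).2 fun h =>
        one_ne_zero (α := k) (by simpa using (hs.2 (PicPn.X_mem 0)).1 h)⟩
    intro y
    have h3 := closure_minimal hsub (ι.isClosedEmbedding.isClosed_range.preimage r.continuous)
    have hU' : IsLocallyClosed (U : Set (CohB1.ProjSpace 1 k)) := U.2.isLocallyClosed
    rw [JacobsonSpace.closure_inter_closedPoints_eq_closure hU', (show Dense (U : Set (CohB1.ProjSpace 1 k)) from U.2.dense hne).closure_eq] at h3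
    exact h3 trivial
  obtain ⟨g, hg⟩ := AlgStLib.exists_factor_of_range ι r hrange
  obtain ⟨s₀, hs₀, hs₀c⟩ := exists_pt (n := 1) (![1, 0] : Fin 2 → k) fun h => one_ne_zero (congrFun h 0)
  set y₀ := s₀ (IsLocalRing.closedPoint k)
  have hgι : ∀ y, ι (g y) = r y := fun y => by rw [← Scheme.Hom.comp_apply, hg]
  have hx0 : IsPtOf (n := N) (ι (g y₀)) c := by
    rw [hgι]
    have h1 := (haff y₀ 0 hs₀c).smul hH0
    rw [show (H.eval 0 • fun i => (F' i).eval 0) = c from funext fun i => by
      show H.eval 0 * _ = _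
      rw [← Polynomial.eval_mul, ← hFF']
      exact hF.zero i] at h1
    exact h1
  have hgq : g ≫ ι ≫ CohB1.ProjSpace.toSpec N k = CohB1.ProjSpace.toSpec 1 k := by
    rw [← Category.assoc, hg, hr]
  refine ⟨g y₀, ?_, hx0, g, hgq, ?_, ⟨y₀, rfl⟩, ?_⟩
  · exact ((pointEquivClosedPoint (ι ≫ CohB1.ProjSpace.toSpec N k)) ⟨s₀ ≫ g, by rw [Category.assoc, hgq, hs₀]⟩).2
  · rintro ⟨w, hw⟩
    obtain ⟨j, hj⟩ := hF.nc
    refine hj ?_
    rw [hFF' j, hFF' a]
    suffices e1 : F' j = Polynomial.C (c j) * F' a by rw [e1]; ring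
    refine Polynomial.funext fun t => ?_
    obtain ⟨s, -, hsc⟩ := exists_pt (n := 1) (![1, t] : Fin 2 → k) fun h => one_ne_zero (congrFun h 0)
    have h1 := haff _ t hsc
    rw [← hgι, show g (s (IsLocalRing.closedPoint k)) = g y₀ from (hw ⟨_, rfl⟩).trans (hw ⟨y₀, rfl⟩).symm] at h1
    obtain ⟨u, -, hu⟩ := proportional hx0 h1
    have ej := congrFun hu j
    have ea := congrFun hu a
    simp only [Pi.smul_apply, smul_eq_mul, hca, mul_one] at ej ea
    rw [Polynomial.eval_mul, Polynomial.eval_C, ej, ea, mul_comm]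
  · rw [hg, hdeg]
    exact_mod_cast hed

include hq in
/-- **The locus of rational curves of bounded degree is closed.** -/
theorem hasCurve_of_mem_closure {x : X} (hx : IsClosed ({x} : Set X))
    (hxcl : x ∈ closure {z : X | IsClosed ({z} : Set X) ∧ HasCurve ι d z}) : HasCurve ι d x := by
  classical
  haveI := hq
  haveI := ProjMor.isProper_toSpec N k
  have hιx : IsClosed ({ι x} : Set (CohB1.ProjSpace N k)) := by
    rw [← Set.image_singleton]; exact ι.isClosedEmbedding.isClosedMap _ hx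
  obtain ⟨c₁, hc₁⟩ := exists_tuple (ι x) hιx
  obtain ⟨a, ha⟩ : ∃ a, c₁ a ≠ 0 := Function.ne_iff.1 hc₁.1
  let c := (c₁ a)⁻¹ • c₁
  have hc : IsPtOf (n := N) (ι x) c := hc₁.smul (inv_ne_zero ha)
  have hca : c a = 1 := by simp [c, ha]
  have hvan : ∀ f : MvPolynomial (Fin (N + 1)) k,
      (∀ y : Fin (N + 1) → k, (∃ z : Vars N d → k, ∀ P ∈ sys ι d a, MvPolynomial.eval (Sum.elim y z) P = 0) →
        MvPolynomial.eval y f = 0) → MvPolynomial.eval c f = 0 := by
    intro f hf
    let D := f.totalDegree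
    let Af : MvPolynomial (Fin (N + 1)) k :=
      ∑ j ∈ Finset.range (D + 1), MvPolynomial.homogeneousComponent j f * MvPolynomial.X a ^ (D - j)
    have hAf : Af * MvPolynomial.X a ∈ CohB1.polyGrading N k (D + 1) := by
      refine SetLike.mul_mem_graded (Submodule.sum_mem _ fun j hj => ?_) (PicPn.X_mem a)
      have h1 := (MvPolynomial.homogeneousComponent_isHomogeneous j f).mul
        ((MvPolynomial.isHomogeneous_X k a).pow (D - j))
      rw [show j + 1 * (D - j) = D by have := Finset.mem_range_succ_iff.1 hj; omega] at h1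
      exact h1
    have hev : ∀ y : Fin (N + 1) → k, y a = 1 → MvPolynomial.eval y (Af * MvPolynomial.X a) = MvPolynomial.eval y f :=
      fun y hy => by
        conv_rhs => rw [← MvPolynomial.sum_homogeneousComponent f]
        simp [Af, hy, D]
    have hsub : {z : X | IsClosed ({z} : Set X) ∧ HasCurve ι d z} ⊆
        ι.base ⁻¹' ProjectiveSpectrum.zeroLocus (CohB1.polyGrading N k) {Af * MvPolynomial.X a} := by
      rintro z ⟨hz, hzc⟩ _ rfl
      show Af * MvPolynomial.X a ∈ pr (ι z)
      have hιz : IsClosed ({ι z} : Set (CohB1.ProjSpace N k)) := by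
        rw [← Set.image_singleton]; exact ι.isClosedEmbedding.isClosedMap _ hz
      obtain ⟨e₁, he₁⟩ := exists_tuple (ι z) hιz
      refine (he₁.2 hAf).2 ?_
      by_cases h0 : e₁ a = 0
      · simp [h0]
      have he := he₁.smul (inv_ne_zero h0)
      have hea : ((e₁ a)⁻¹ • e₁) a = 1 := by simp [h0]
      have h1 : MvPolynomial.eval ((e₁ a)⁻¹ • e₁) (Af * MvPolynomial.X a) = 0 := by
        rw [hev _ hea]
        exact hf _ (solution_of_curve ι hq hz hzc he hea)
      exact (he₁.2 hAf).1 ((he.2 hAf).2 h1)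
    have h1 := closure_minimal hsub ((ProjectiveSpectrum.isClosed_zeroLocus _ _).preimage ι.continuous) hxcl
    rw [← hev c hca]
    exact (hc.2 hAf).1 (h1 rfl)
  obtain ⟨K, hKf, hKac, V, ψ, y, z, hsol, hres⟩ := exists_valued (sys ι d a) c hvan
  obtain ⟨hF, hya, hA⟩ := sys_solution ι d a (V.subtype.comp ψ) (fun i => (y i : K)) z hsol
  obtain ⟨R, hR1, hR2, ⟨j, hR3⟩, hR4⟩ := exists_limit (V := V) (x := fun i => (y i : K)) (a := a) hya (fun i => (y i).2) d _ hF
  let φ : k →+* IsLocalRing.ResidueField V := (IsLocalRing.residue V).comp ψ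
  obtain ⟨zR, hzR⟩ := exists_sys ι d a φ (fun i => φ (c i)) (by simp [hca]) R
    ⟨hR1, fun i => (hR2 i (y i).2).trans (hres i), j, fun e => hR3 (y j).2 (e.trans (by
      rw [show φ (c j) = IsLocalRing.residue V (y j) from (hres j).symm]))⟩
    fun m A hA' => by
      have h1 := hR4 m (MvPolynomial.map ψ A) (((MvPolynomial.mem_homogeneousSubmodule m A).1 hA'.1).map ψ)
        (by show MvPolynomial.eval₂ _ _ (MvPolynomial.map ψ A) = 0
            rw [MvPolynomial.eval₂_map]
            exact hA m A hA')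
      rw [MvPolynomial.eval₂_map] at h1
      exact h1
  obtain ⟨z₀, hz₀⟩ := exists_solution
    ((MvPolynomial.eval₂Hom MvPolynomial.C (Sum.elim (fun i => MvPolynomial.C (c i)) MvPolynomial.X)) '' sys ι d a)
    φ zR (by
      rintro _ ⟨P, hP, rfl⟩
      have e1 : (MvPolynomial.eval₂Hom φ zR).comp
          (MvPolynomial.eval₂Hom MvPolynomial.C (Sum.elim (fun i => MvPolynomial.C (c i)) MvPolynomial.X)) =
          MvPolynomial.eval₂Hom φ (Sum.elim (fun i => φ (c i)) zR) :=
        MvPolynomial.ringHom_ext (fun r => by simp) fun i => by cases i <;> simp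
      exact (RingHom.congr_fun e1 P).trans (hzR P hP))
  obtain ⟨x', -, hx'c, hcur⟩ := curve_of_solution ι hq (a := a) (c := c) (z := z₀) fun P hP => by
    have e1 : (MvPolynomial.eval z₀).comp
        (MvPolynomial.eval₂Hom MvPolynomial.C (Sum.elim (fun i => MvPolynomial.C (c i)) MvPolynomial.X)) =
        MvPolynomial.eval (Sum.elim c z₀) :=
      MvPolynomial.ringHom_ext (fun r => by simp) fun i => by cases i <;> simp
    exact (RingHom.congr_fun e1 P).symm.trans (hz₀ _ ⟨P, hP, rfl⟩)
  rwa [ι.isClosedEmbedding.injective (hx'c.eq hc)] at hcur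

end Groth.Agent.RatDeg
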