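import Mathlib

/-!
# Limits of polynomial curves of bounded degree over a valuation ring
-/

set_option autoImplicit false

universe u v

open Polynomial

noncomputable section

namespace Groth.Agent.RatDeg

variable {ι : Type v}

/-- Homogeneous polynomials scale. -/
theorem eval₂_smul_of_homogeneous {R S : Type*} [CommRing R] [CommRing S] (f : R →+* S) {m : ℕ}
    {G : MvPolynomial ι R} (hG : G.IsHomogeneous m) (t : S) (y : ι → S) :
    MvPolynomial.eval₂ f (fun i => t * y i) G = t ^ m * MvPolynomial.eval₂ f y G := by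
  rw [MvPolynomial.eval₂_eq, MvPolynomial.eval₂_eq, Finset.mul_sum]
  refine Finset.sum_congr rfl fun s hs => ?_
  rw [Finset.prod_congr rfl fun i _ => mul_pow t (y i) (s i), Finset.prod_mul_distrib,
    Finset.prod_pow_eq_pow_sum, show ∑ i ∈ s.support, s i = m from (hG.degree_eq_sum_deg_support hs).symm]
  ring

/-- Evaluation commutes with the equations. -/
theorem eval_eval₂ {R S : Type*} [CommRing R] [CommRing S] (f : R →+* S) (F : ι → S[X]) (G : MvPolynomial ι R)
    (s : S) : (MvPolynomial.eval₂ (C.comp f) F G).eval s = MvPolynomial.eval₂ f (fun i => (F i).eval s) G := by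
  rw [← coe_evalRingHom, MvPolynomial.eval₂_comp_left (evalRingHom s)]
  congr 1
  ext a
  simp

variable {K : Type u} [Field K] (V : ValuationSubring K) (a : ι) (x : ι → K)

/-- A nonconstant polynomial curve of degree at most `n` through the point `x` at the origin. -/
structure IsCurve (n : ℕ) (F : ι → K[X]) : Prop where
  deg : ∀ i, (F i).natDegree ≤ n
  zero : ∀ i, (F i).eval 0 = x i
  nc : ∃ i, F i ≠ C (x i) * F a

/-- The curve `F` satisfies the homogeneous equation `G`. -/
def Sat (F : ι → K[X]) {m : ℕ} {G : MvPolynomial ι V} (_hG : G.IsHomogeneous m) : Prop :=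
  MvPolynomial.eval₂ (C.comp V.subtype) F G = 0

/-- The limit curve through the reduction of `x`. -/
def Limit (n : ℕ) (F : ι → K[X]) : Prop :=
  ∃ R : ι → (IsLocalRing.ResidueField V)[X], (∀ i, (R i).natDegree ≤ n) ∧
    (∀ (i : ι) (hi : x i ∈ V), (R i).eval 0 = IsLocalRing.residue V ⟨x i, hi⟩) ∧
    (∃ i, ∀ (hi : x i ∈ V), R i ≠ C (IsLocalRing.residue V ⟨x i, hi⟩) * R a) ∧
    ∀ (m : ℕ) (G : MvPolynomial ι V) (hG : G.IsHomogeneous m), Sat V F hG →
      MvPolynomial.eval₂ (C.comp (IsLocalRing.residue V)) R G = 0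

variable {V a x}

/-- The rescaling by a root of the coordinate `a`. -/
theorem exists_moved [Infinite K] {n : ℕ} {F : ι → K[X]} (hF : IsCurve a x n F) (hxa : x a = 1)
    (hn : ∀ i, (F i).natDegree ≤ (F a).natDegree) {Q : K} (hQ : (F a).IsRoot Q) {j : ι}
    (hj : ¬ (F j - C (x j) * F a).IsRoot Q) :
    ∃ T : ι → K[X], IsCurve a x n T ∧
      (T a).natDegree < (T j - C (x j) * T a).natDegree ∧
      ∀ (m : ℕ) (G : MvPolynomial ι V) (hG : G.IsHomogeneous m), Sat V F hG → Sat V T hG := by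
  classical
  set d := (F a).natDegree with hd
  let τ : K[X] → K[X] := fun f =>
    ∑ i ∈ Finset.range (d + 1), C (f.coeff i * Q ^ i) * (X ^ i * (X + 1) ^ (d - i))
  have hτlin : ∀ (f g : K[X]) (c : K), τ (f - C c * g) = τ f - C c * τ g := fun f g c => by
    simp only [τ, coeff_sub, coeff_C_mul, Finset.mul_sum, ← Finset.sum_sub_distrib]
    refine Finset.sum_congr rfl fun i _ => ?_
    rw [sub_mul, C_sub, sub_mul, mul_assoc c, C_mul (a := c), mul_assoc (C c)]
  have hτdeg : ∀ f, (τ f).natDegree ≤ d := fun f => by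
    refine natDegree_sum_le_of_forall_le _ _ fun i hi => (natDegree_C_mul_le _ _).trans ?_
    refine natDegree_mul_le.trans ?_
    rw [natDegree_X_pow, natDegree_pow, ← C_1, natDegree_X_add_C, mul_one]
    have := Finset.mem_range_succ_iff.1 hi
    omega
  have hτtop : ∀ f : K[X], f.natDegree ≤ d → (τ f).coeff d = f.eval Q := fun f hf => by
    rw [eval_eq_sum_range' (Nat.lt_succ_of_le hf)]
    simp only [τ, finsetSum_coeff, coeff_C_mul]
    refine Finset.sum_congr rfl fun i hi => ?_
    have hid := Finset.mem_range_succ_iff.1 hi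
    rw [coeff_X_pow_mul', if_pos hid, coeff_X_add_one_pow, Nat.choose_self, Nat.cast_one, mul_one]
  have hτev : ∀ f : K[X], f.natDegree ≤ d → ∀ s : K, s + 1 ≠ 0 →
      (τ f).eval s = (s + 1) ^ d * f.eval (Q * s / (s + 1)) := fun f hf s hs => by
    rw [eval_eq_sum_range' (Nat.lt_succ_of_le hf)]
    simp only [τ, eval_finsetSum, eval_mul, eval_C, eval_pow, eval_add, eval_X,
      eval_one, Finset.mul_sum]
    refine Finset.sum_congr rfl fun i hi => ?_
    rw [pow_sub₀ _ hs (Finset.mem_range_succ_iff.1 hi), div_pow, mul_pow]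
    field_simp
  have hτ0 : ∀ f : K[X], f.natDegree ≤ d → (τ f).eval 0 = f.eval 0 := fun f hf => by
    rw [hτev f hf 0 (by simp)]; simp
  let T : ι → K[X] := fun i => τ (F i)
  have hTD : ∀ i, T i - C (x i) * T a = τ (F i - C (x i) * F a) := fun i => (hτlin _ _ _).symm
  have hDd : (F j - C (x j) * F a).natDegree ≤ d :=
    (natDegree_sub_le _ _).trans (max_le (hn j) (natDegree_C_mul_le _ _))
  have htop : (T j - C (x j) * T a).coeff d ≠ 0 := by
    rw [hTD, hτtop _ hDd]; exact hj
  have hda : (T a).natDegree < d := by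
    refine lt_of_le_of_ne (hτdeg _) fun h => ?_
    by_cases h0 : T a = 0
    · rw [h0, natDegree_zero] at h
      have : F a = C ((F a).eval 0) := by
        rw [← coeff_zero_eq_eval_zero]
        exact eq_C_of_natDegree_eq_zero h.symm
      have hQ' : (F a).eval Q = 0 := hQ
      rw [this, eval_C, hF.zero, hxa] at hQ'
      exact one_ne_zero hQ'
    · have := leadingCoeff_ne_zero.2 h0
      rw [leadingCoeff, h, hτtop _ le_rfl] at this
      exact this hQ
  refine ⟨T, ⟨fun i => (hτdeg _).trans (hF.deg a), fun i => ?_, j, fun e => ?_⟩, ?_, fun m G hG h => ?_⟩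
  · exact (hτ0 _ (hn i)).trans (hF.zero i)
  · exact htop (by rw [e, sub_self, coeff_zero])
  · exact hda.trans_le (le_natDegree_of_ne_zero htop)
  · refine eq_zero_of_infinite_isRoot _ ((Set.finite_singleton (-1 : K)).infinite_compl.mono fun s hs => ?_)
    have hs1 : s + 1 ≠ 0 := fun e => hs (by simpa using eq_neg_of_add_eq_zero_left e)
    show (MvPolynomial.eval₂ (C.comp V.subtype) T G).eval s = 0
    rw [eval_eval₂, show (fun i => (T i).eval s) = fun i => (s + 1) ^ d * (F i).eval (Q * s / (s + 1)) from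
      funext fun i => hτev _ (hn i) s hs1, eval₂_smul_of_homogeneous _ hG, ← eval_eval₂]
    rw [show MvPolynomial.eval₂ (C.comp V.subtype) F G = 0 from h]
    simp

/-- The limit when the coordinate `a` has small degree: rescale by the smallest critical radius. -/
theorem limit_of_deg_lt [IsAlgClosed K] [Fintype ι] {n : ℕ} {F : ι → K[X]} (hF : IsCurve a x n F) (hxa : x a = 1)
    (hxV : ∀ i, x i ∈ V) {j₀ : ι} (hj₀ : (F a).natDegree < (F j₀ - C (x j₀) * F a).natDegree) :
    Limit V a x n F := by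
  classical
  let v := V.valuation
  have hv0 : ∀ z : K, z ≠ 0 → v z ≠ 0 := fun z hz => v.ne_zero_iff.2 hz
  let D : ι → K[X] := fun i => F i - C (x i) * F a
  let p : ℕ → K := fun i => (F a).coeff i
  have hp0 : p 0 = 1 := by
    show (F a).coeff 0 = 1
    rw [coeff_zero_eq_eval_zero, hF.zero, hxa]
  have hD0 : ∀ i, (D i).coeff 0 = 0 := fun i => by
    show (F i - C (x i) * F a).coeff 0 = 0
    rw [coeff_zero_eq_eval_zero, eval_sub, eval_mul, eval_C, hF.zero, hF.zero, hxa, mul_one, sub_self]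
  have hpn : ∀ i, (F a).natDegree < i → p i = 0 := fun i => coeff_eq_zero_of_natDegree_lt
  have hDn : ∀ j i, (D j).coeff i ≠ 0 → i ≤ n := fun j i h => (le_natDegree_of_ne_zero h).trans
    ((natDegree_sub_le _ _).trans (max_le (hF.deg j) ((natDegree_C_mul_le _ _).trans (hF.deg a))))
  have hroot : ∀ (b : K) (e : ℕ), ∃ z : K, 0 < e → z ^ e = b := fun b e => by
    by_cases he : 0 < e
    · obtain ⟨z, hz⟩ := IsAlgClosed.exists_pow_nat_eq b he
      exact ⟨z, fun _ => hz⟩
    · exact ⟨0, fun h => absurd h he⟩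
  choose root hrootspec using hroot
  let cand : ι → ℕ → ℕ → K := fun j i₁ i => root (p i / (D j).coeff i₁) (i₁ - i)
  have hcand : ∀ j i₁ i, i < i₁ → cand j i₁ i ^ (i₁ - i) = p i / (D j).coeff i₁ := fun j i₁ i h =>
    hrootspec _ _ (by omega)
  have hmax : ∀ j i₁, (D j).coeff i₁ ≠ 0 → ∃ i, i < i₁ ∧ cand j i₁ i ≠ 0 ∧
      ∀ i', i' < i₁ → v (cand j i₁ i') ≤ v (cand j i₁ i) := by
    intro j i₁ hne
    have h0i : 0 < i₁ := Nat.pos_of_ne_zero fun e => hne (e ▸ hD0 j)
    obtain ⟨i, hi, hm⟩ := Finset.exists_max_image (Finset.range i₁) (fun i => v (cand j i₁ i)) ⟨0, Finset.mem_range.2 h0i⟩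
    refine ⟨i, Finset.mem_range.1 hi, fun e => ?_, fun i' hi' => hm i' (Finset.mem_range.2 hi')⟩
    have h0 := hm 0 (Finset.mem_range.2 h0i)
    rw [e, map_zero, le_zero_iff, map_eq_zero] at h0
    have := hcand j i₁ 0 h0i
    rw [h0, zero_pow (by omega), hp0] at this
    exact div_ne_zero one_ne_zero hne this.symm
  have hlow : ∀ j i₁, (D j).coeff i₁ ≠ 0 → ∀ (c : K), (∀ i, i < i₁ → v (cand j i₁ i) ≤ v c) →
      ∀ i, i < i₁ → v (p i * c ^ i) ≤ v ((D j).coeff i₁ * c ^ i₁) := by
    intro j i₁ hne c hc i hi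
    have e : p i = (D j).coeff i₁ * cand j i₁ i ^ (i₁ - i) := by
      rw [hcand j i₁ i hi, mul_div_cancel₀ _ hne]
    rw [e, show c ^ i₁ = c ^ (i₁ - i) * c ^ i by rw [← pow_add, Nat.sub_add_cancel hi.le], ← mul_assoc]
    simp only [map_mul, map_pow]
    gcongr
    exact hc i hi
  let S : Finset K := (Finset.univ ×ˢ (Finset.range (n + 1) ×ˢ Finset.range (n + 1))).image
    fun t : ι × ℕ × ℕ => cand t.1 t.2.1 t.2.2
  have hS : ∀ j i₁ i, (D j).coeff i₁ ≠ 0 → i < i₁ → cand j i₁ i ∈ S := fun j i₁ i h1 h2 =>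
    Finset.mem_image.2 ⟨(j, i₁, i), Finset.mem_product.2 ⟨Finset.mem_univ _, Finset.mem_product.2
      ⟨Finset.mem_range.2 (Nat.lt_succ_of_le (hDn j i₁ h1)),
       Finset.mem_range.2 (Nat.lt_succ_of_le (h2.le.trans (hDn j i₁ h1)))⟩⟩, rfl⟩
  let Feas : K → Prop := fun c => c ≠ 0 ∧ ∃ j i₁, ∀ i, v (p i * c ^ i) ≤ v ((D j).coeff i₁ * c ^ i₁)
  have hne : (S.filter Feas).Nonempty := by
    have hDne : (D j₀).coeff (D j₀).natDegree ≠ 0 := by
      have h0 : D j₀ ≠ 0 := fun e => by
        rw [show F j₀ - C (x j₀) * F a = 0 from e, natDegree_zero] at hj₀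
        omega
      exact leadingCoeff_ne_zero.2 h0
    obtain ⟨i, hi, hi0, him⟩ := hmax j₀ _ hDne
    refine ⟨_, Finset.mem_filter.2 ⟨hS j₀ _ i hDne hi, hi0, j₀, (D j₀).natDegree, fun i' => ?_⟩⟩
    by_cases hi' : i' < (D j₀).natDegree
    · exact hlow j₀ _ hDne _ him i' hi'
    · rw [hpn i' (hj₀.trans_le (not_lt.1 hi')), zero_mul, map_zero]
      exact zero_le'
  obtain ⟨c, hcS, hcmin⟩ := Finset.exists_min_image (S.filter Feas) (fun c => v c) hne
  obtain ⟨-, hc0, jf, if₁, hfeas⟩ := Finset.mem_filter.1 hcS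
  obtain ⟨⟨jM, iM⟩, -, hM⟩ := Finset.exists_max_image (Finset.univ ×ˢ Finset.range (n + 1))
    (fun t : ι × ℕ => v ((D t.1).coeff t.2 * c ^ t.2)) ⟨(a, 0), by simp⟩
  set M := v ((D jM).coeff iM * c ^ iM) with hMdef
  have hDle : ∀ j i, v ((D j).coeff i * c ^ i) ≤ M := fun j i => by
    by_cases h : (D j).coeff i = 0
    · rw [h, zero_mul, map_zero]; exact zero_le'
    · exact hM (j, i) (by simp [Nat.lt_succ_of_le (hDn j i h)])
  have hple : ∀ i, v (p i * c ^ i) ≤ M := fun i => (hfeas i).trans (hDle jf if₁)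
  have hMpos : M ≠ 0 := fun e => by
    have h1 := hple 0
    rw [hp0, pow_zero, one_mul, map_one, e] at h1
    exact one_ne_zero (le_zero_iff.1 h1)
  have hbelow : ∀ j i₁, v ((D j).coeff i₁ * c ^ i₁) = M → ∃ i, i < i₁ ∧ v (p i * c ^ i) = M := by
    intro j i₁ hji
    by_contra hcon
    push Not at hcon
    have hne₁ : (D j).coeff i₁ ≠ 0 := fun e => hMpos (by rw [← hji, e, zero_mul, map_zero])
    obtain ⟨i, hi, hi0, him⟩ := hmax j i₁ hne₁
    have hlt : v (cand j i₁ i) < v c := by
      by_contra hge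
      push Not at hge
      refine hcon i hi (le_antisymm (hple i) ?_)
      rw [← hji, show p i = (D j).coeff i₁ * cand j i₁ i ^ (i₁ - i) by rw [hcand j i₁ i hi, mul_div_cancel₀ _ hne₁],
        show c ^ i₁ = c ^ (i₁ - i) * c ^ i by rw [← pow_add, Nat.sub_add_cancel hi.le], ← mul_assoc]
      simp only [map_mul, map_pow]
      gcongr
    refine absurd (hcmin _ (Finset.mem_filter.2 ⟨hS j i₁ i hne₁ hi, hi0, j, i₁, fun i' => ?_⟩)) (not_le.2 hlt)
    by_cases hi' : i' < i₁
    · exact hlow j i₁ hne₁ _ him i' hi'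
    · push Not at hi'
      have h1 := (hple i').trans hji.ge
      rw [show c ^ i' = c ^ (i' - i₁) * c ^ i₁ by rw [← pow_add, Nat.sub_add_cancel hi'], ← mul_assoc] at h1
      simp only [map_mul, map_pow] at h1
      have h2 := le_of_mul_le_mul_right h1 (pow_pos (zero_lt_iff.2 (hv0 c hc0)) i₁)
      rw [show cand j i₁ i ^ i' = cand j i₁ i ^ (i' - i₁) * cand j i₁ i ^ i₁ by
        rw [← pow_add, Nat.sub_add_cancel hi'], ← mul_assoc]
      simp only [map_mul, map_pow]
      gcongr
      refine le_trans ?_ h2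
      gcongr
  obtain ⟨hex, -⟩ : (∃ i, v (p i * c ^ i) = M) ∧ True := ⟨by
    obtain ⟨i, -, hi⟩ := hbelow jM iM rfl; exact ⟨i, hi⟩, trivial⟩
  set i₀ := Nat.find hex with hi₀
  have hi₀M : v (p i₀ * c ^ i₀) = M := Nat.find_spec hex
  have hDgt : ∀ j i, i ≤ i₀ → v ((D j).coeff i * c ^ i) < M := fun j i hi => (hDle j i).lt_of_ne fun e => by
    obtain ⟨i', hi', he⟩ := hbelow j i e
    exact Nat.find_min hex (lt_of_lt_of_le hi' hi) he
  set lam := p i₀ * c ^ i₀
  have hlam0 : lam ≠ 0 := fun e => hMpos (by rw [← hi₀M, e, map_zero])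
  let coefs : ι → ℕ → K := fun i e => (F i).coeff e * c ^ e / lam
  have hdecomp : ∀ i e, coefs i e = (D i).coeff e * c ^ e / lam + x i * (p e * c ^ e / lam) := fun i e => by
    show (F i).coeff e * c ^ e / lam = (F i - C (x i) * F a).coeff e * c ^ e / lam + _
    rw [coeff_sub, coeff_C_mul]
    show _ = ((F i).coeff e - x i * p e) * c ^ e / lam + _
    ring
  have hxv : ∀ i, v (x i) ≤ 1 := fun i => (V.valuation_le_one_iff _).2 (hxV i)
  have hvle : ∀ z, v z ≤ M → z / lam ∈ V := fun z hz => by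
    refine V.mem_of_valuation_le_one _ ?_
    show v (z / lam) ≤ 1
    rw [map_div₀, hi₀M]
    exact div_le_one_of_le₀ hz zero_le'
  have hpV : ∀ e, p e * c ^ e / lam ∈ V := fun e => hvle _ (hple e)
  have hDV : ∀ i e, (D i).coeff e * c ^ e / lam ∈ V := fun i e => hvle _ (hDle i e)
  have hcV : ∀ i e, coefs i e ∈ V := fun i e => by
    rw [hdecomp]; exact V.add_mem _ _ (hDV i e) (V.mul_mem _ _ (hxV i) (hpV e))
  let H : ι → (↥V)[X] := fun i => ∑ e ∈ Finset.range (n + 1), monomial e ⟨coefs i e, hcV i e⟩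
  let res := IsLocalRing.residue V
  have hHc : ∀ i e, ((H i).coeff e : K) = coefs i e := fun i e => by
    simp only [H, finsetSum_coeff, coeff_monomial, Finset.sum_ite_eq']
    split_ifs with h
    · rfl
    · rw [Finset.mem_range, not_lt] at h
      show (0 : K) = (F i).coeff e * c ^ e / lam
      rw [coeff_eq_zero_of_natDegree_lt (lt_of_le_of_lt (hF.deg i) h), zero_mul, zero_div]
  have hres0 : ∀ (z : K) (hz : z / lam ∈ V), v z < M → res ⟨z / lam, hz⟩ = 0 := fun z hz hlt => by
    refine (IsLocalRing.residue_eq_zero_iff _).2 ((V.valuation_lt_one_iff _).2 ?_)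
    show v (z / lam) < 1
    rw [map_div₀, hi₀M]
    exact (div_lt_one₀ (zero_lt_iff.2 hMpos)).2 hlt
  have hres : ∀ i e, res ((H i).coeff e) = res ⟨_, hDV i e⟩ + res ⟨x i, hxV i⟩ * res ⟨_, hpV e⟩ := fun i e => by
    rw [← map_mul, ← map_add]
    exact congrArg res (Subtype.ext ((hHc i e).trans (hdecomp i e)))
  have hlow₀ : ∀ i e, e < i₀ → res ((H i).coeff e) = 0 := fun i e he => by
    rw [hres, hres0 _ (hDV i e) (hDgt i e he.le), hres0 _ (hpV e) ((hple e).lt_of_ne (Nat.find_min hex he)),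
      mul_zero, add_zero]
  have hp₀ : res ⟨_, hpV i₀⟩ = 1 := by
    rw [← map_one res]
    exact congrArg res (Subtype.ext (div_self hlam0))
  let Rp : ι → (IsLocalRing.ResidueField V)[X] := fun i =>
    ∑ e ∈ Finset.range (n + 1), monomial e (res ((H i).coeff (e + i₀)))
  have hRc : ∀ i e, (Rp i).coeff e = res ((H i).coeff (e + i₀)) := fun i e => by
    simp only [Rp, finsetSum_coeff, coeff_monomial, Finset.sum_ite_eq']
    split_ifs with h
    · rfl
    · rw [Finset.mem_range, not_lt] at h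
      have h0 : (H i).coeff (e + i₀) = 0 := Subtype.ext (by
        rw [hHc]
        show (F i).coeff _ * _ / _ = (0 : K)
        rw [coeff_eq_zero_of_natDegree_lt (lt_of_le_of_lt (hF.deg i) (by omega)), zero_mul, zero_div])
      rw [h0, map_zero]
  have hRdeg : ∀ i, (Rp i).natDegree ≤ n := fun i => natDegree_sum_le_of_forall_le _ _ fun e he =>
    (natDegree_monomial_le _).trans (Finset.mem_range_succ_iff.1 he)
  have hDa : D a = 0 := by
    show F a - C (x a) * F a = 0
    rw [hxa, C_1, one_mul, sub_self]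
  refine ⟨Rp, hRdeg, fun i hi => ?_, ⟨jM, fun hi e => ?_⟩, fun m G hG hsat => ?_⟩
  · rw [← coeff_zero_eq_eval_zero, hRc, zero_add, hres, hres0 _ (hDV i i₀) (hDgt i i₀ le_rfl), hp₀, zero_add,
      mul_one]
  · have hiM : i₀ < iM := by
      by_contra h
      exact (hDgt jM iM (not_lt.1 h)).ne rfl
    have e1 := congrArg (fun q => q.coeff (iM - i₀)) e
    simp only [coeff_C_mul, hRc, Nat.sub_add_cancel hiM.le] at e1
    rw [hres, hres a] at e1
    have hDa0 : res ⟨_, hDV a iM⟩ = 0 := by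
      rw [← map_zero res]
      refine congrArg res (Subtype.ext ?_)
      show (D a).coeff iM * c ^ iM / lam = 0
      rw [hDa, coeff_zero, zero_mul, zero_div]
    have hxa' : res ⟨x a, hxV a⟩ = 1 := by
      rw [← map_one res]; exact congrArg res (Subtype.ext hxa)
    rw [hDa0, hxa', zero_add, one_mul, add_eq_right] at e1
    have h1 := (V.valuation_lt_one_iff _).1 ((IsLocalRing.residue_eq_zero_iff _).1 e1)
    change v ((D jM).coeff iM * c ^ iM / lam) < 1 at h1
    rw [map_div₀, hi₀M, div_self hMpos] at h1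
    exact lt_irrefl _ h1
  · have hH : ∀ i, (H i).map V.subtype = C lam⁻¹ * (F i).comp (C c * X) := fun i => by
      ext e
      rw [coeff_map, coeff_C_mul, comp_C_mul_X_coeff]
      exact (hHc i e).trans (by show (F i).coeff e * c ^ e / lam = _; ring)
    have hHG : MvPolynomial.eval₂ C H G = 0 := by
      refine map_injective V.subtype Subtype.val_injective ?_
      rw [Polynomial.map_zero, ← coe_mapRingHom, MvPolynomial.eval₂_comp_left (mapRingHom V.subtype)]
      rw [show (mapRingHom V.subtype).comp C = C.comp V.subtype from RingHom.ext fun r => by simp,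
        show (mapRingHom V.subtype) ∘ H = fun i => C lam⁻¹ * (F i).comp (C c * X) from funext hH,
        eval₂_smul_of_homogeneous _ hG]
      have e2 := MvPolynomial.eval₂_comp_left (compRingHom (C c * X)) (C.comp V.subtype) F G
      rw [show (compRingHom (C c * X)).comp (C.comp V.subtype) = C.comp V.subtype from
        RingHom.ext fun r => by simp, show MvPolynomial.eval₂ (C.comp V.subtype) F G = 0 from hsat, map_zero] at e2
      exact mul_eq_zero_of_right _ (e2.symm.trans rfl)
    have hXH : ∀ i, (H i).map res = X ^ i₀ * Rp i := fun i => by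
      ext e
      rw [coeff_map, coeff_X_pow_mul']
      split_ifs with h
      · rw [hRc, Nat.sub_add_cancel h]
      · exact hlow₀ i e (not_le.1 h)
    have e3 := MvPolynomial.eval₂_comp_left (mapRingHom res) C H G
    rw [hHG, map_zero, show (mapRingHom res).comp C = C.comp res from RingHom.ext fun r => by simp,
      show (mapRingHom res) ∘ H = fun i => X ^ i₀ * Rp i from funext hXH, eval₂_smul_of_homogeneous _ hG] at e3
    exact (mul_eq_zero.1 e3.symm).resolve_left (pow_ne_zero _ (pow_ne_zero _ X_ne_zero))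

/-- A nonconstant curve of degree at most `n` through `x` specialises to one through the reduction of `x`. -/
theorem exists_limit [IsAlgClosed K] [Fintype ι] (hxa : x a = 1) (hxV : ∀ i, x i ∈ V) :
    ∀ (n : ℕ) (F : ι → K[X]), IsCurve a x n F → Limit V a x n F := by
  classical
  intro n
  induction n using Nat.strong_induction_on with
  | _ n ih =>
  intro F hF
  by_cases h : ∃ j, (F a).natDegree < (F j - C (x j) * F a).natDegree
  · obtain ⟨j, hj⟩ := h
    exact limit_of_deg_lt hF hxa hxV hj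
  push Not at h
  have hle : ∀ i, (F i).natDegree ≤ (F a).natDegree := fun i => by
    have e : F i = (F i - C (x i) * F a) + C (x i) * F a := by ring
    rw [e]
    exact (natDegree_add_le _ _).trans (max_le (h i) (natDegree_C_mul_le _ _))
  have hpos : (F a).natDegree ≠ 0 := fun h0 => by
    obtain ⟨i, hi⟩ := hF.nc
    refine hi ?_
    have hFi := eq_C_of_natDegree_eq_zero (Nat.le_zero.1 ((hle i).trans h0.le))
    have hFa := eq_C_of_natDegree_eq_zero h0
    rw [hFi, hFa, coeff_zero_eq_eval_zero, coeff_zero_eq_eval_zero, hF.zero, hF.zero, hxa, C_1, mul_one]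
  have hne : F a ≠ 0 := fun e => hpos (by rw [e, natDegree_zero])
  obtain ⟨Q, hQ⟩ := IsAlgClosed.exists_root (F a) fun e => hpos (natDegree_eq_zero_iff_degree_le_zero.2 e.le)
  by_cases hj : ∃ j, ¬ (F j - C (x j) * F a).IsRoot Q
  · obtain ⟨j, hj⟩ := hj
    obtain ⟨T, hT, hdeg, hsat⟩ := exists_moved (V := V) hF hxa hle hQ hj
    obtain ⟨R, h1, h2, h3, h4⟩ := limit_of_deg_lt hT hxa hxV hdeg
    exact ⟨R, h1, h2, h3, fun m G hG hs => h4 m G hG (hsat m G hG hs)⟩
  push Not at hj
  have hQ0 : Q ≠ 0 := fun e => by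
    have : (F a).eval Q = 0 := hQ
    rw [e, hF.zero, hxa] at this
    exact one_ne_zero this
  have hroot : ∀ i, (F i).IsRoot Q := fun i => by
    have e : (F i - C (x i) * F a).eval Q = 0 := hj i
    rwa [eval_sub, eval_mul, eval_C, show (F a).eval Q = 0 from hQ, mul_zero, sub_zero] at e
  choose G₁ hG₁ using fun i => dvd_iff_isRoot.2 (hroot i)
  let F' : ι → K[X] := fun i => C (-Q) * G₁ i
  have hFF' : ∀ i, F i = (C (-Q⁻¹) * (X - C Q)) * F' i := fun i => by
    show F i = _ * (C (-Q) * G₁ i)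
    rw [hG₁ i, mul_mul_mul_comm, ← C_mul, neg_mul_neg, inv_mul_cancel₀ hQ0, C_1, one_mul]
  have hn1 : 0 < n := (Nat.pos_of_ne_zero hpos).trans_le (hF.deg a)
  have hd' : ∀ i, (F' i).natDegree ≤ n - 1 := fun i => (natDegree_C_mul_le _ _).trans (by
    by_cases h0 : G₁ i = 0
    · rw [h0, natDegree_zero]; omega
    · have := hF.deg i
      rw [hG₁ i, natDegree_mul (X_sub_C_ne_zero Q) h0, natDegree_X_sub_C] at this
      omega)
  have h0' : ∀ i, (F' i).eval 0 = x i := fun i => by
    have := hF.zero i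
    rw [hFF' i, eval_mul, eval_mul, eval_C, eval_sub, eval_X, eval_C, zero_sub, neg_mul_neg,
      inv_mul_cancel₀ hQ0, one_mul] at this
    exact this
  have hnc' : ∃ i, F' i ≠ C (x i) * F' a := by
    obtain ⟨i, hi⟩ := hF.nc
    exact ⟨i, fun e => hi (by rw [hFF' i, hFF' a, e]; ring)⟩
  obtain ⟨R, h1, h2, h3, h4⟩ := ih (n - 1) (by omega) F' ⟨hd', h0', hnc'⟩
  refine ⟨R, fun i => (h1 i).trans (Nat.sub_le n 1), h2, h3, fun m G hG hs => h4 m G hG ?_⟩
  have hs' : MvPolynomial.eval₂ (C.comp V.subtype) F G = 0 := hs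
  rw [show F = fun i => (C (-Q⁻¹) * (X - C Q)) * F' i from funext hFF', eval₂_smul_of_homogeneous _ hG,
    mul_eq_zero] at hs'
  exact hs'.resolve_left (pow_ne_zero _ (mul_ne_zero (C_ne_zero.2 (neg_ne_zero.2 (inv_ne_zero hQ0)))
    (X_sub_C_ne_zero Q)))

end Groth.Agent.RatDeg
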